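import Cfsg.Agent.LargeExtra.Local
set_option linter.all false

/-!
# S1763 (`|Q| = 2 ^ 9`): the interface of case II, type (B) (helper71)

`V = Q / ⟨z⟩` in coordinates: `F8 = Fin 8 → ZMod 2`, a vector is given by its code
`n = ∑ 2 ^ i x_i` (`vec n`), the quadratic form is `qs x = x₀x₄ + x₁x₅ + x₂x₆ + x₃x₇`.
A linear map is given by the list `L` of the codes of the images of the eight basis vectors (`lin L`).

`Conf` = the printed data (bb R12 row 2720): `X` generators of `p.X`, `N` further generators of the normal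
subgroup `N` of `H`, `M` generators of the normaliser modulo `N`.
`IsConf p φ c`: in the coordinates `φ` the pair `p` looks like `c`.

The enumeration (helper268) proves: `∃ φ, IsConf p φ c` for one of the nine `c` below
(or kills); the recognition theorems have the form

`theorem recognize [Finite G] [IsSimpleGroup G] (hG : ¬ IsMulCommutative G) (p : Pair Q z A a)
   (h9 : Nat.card Q = 2 ^ 9) (φ : Coord p.lz) (hc : IsConf p φ confXX) : <disjunct of S1763>`.
-/

set_option autoImplicit false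

namespace Cfsg.Agent.LargeExtra.Nine

open Cfsg.Agent.Co2Type.Quad Cfsg.Agent.LargeExtra.Local Cfsg.Agent.LargeExtra.Base

/-- `F₂^8` -/
abbrev F8 : Type := Fin 8 → ZMod 2

/-- vector of a code -/
def vec (n : ℕ) : F8 := fun i => if n.testBit i then 1 else 0

/-- the standard form of plus type -/
def qs (v : F8) : ZMod 2 := v 0 * v 4 + v 1 * v 5 + v 2 * v 6 + v 3 * v 7

/-- its polar form -/
def bs (v w : F8) : ZMod 2 :=
  v 0 * w 4 + v 4 * w 0 + v 1 * w 5 + v 5 * w 1 + v 2 * w 6 + v 6 * w 2 + v 3 * w 7 + v 7 * w 3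

/-- the linear map with `i`-th basis vector mapped to the vector with code `L[i]` -/
def lin (L : List ℕ) : F8 →ₗ[ZMod 2] F8 where
  toFun v := ∑ i : Fin 8, v i • vec (L.getD i 0)
  map_add' v w := by
    simp only [Pi.add_apply, add_smul, Finset.sum_add_distrib]
  map_smul' c v := by
    simp only [Pi.smul_apply, smul_eq_mul, mul_smul, Finset.smul_sum, RingHom.id_apply]

/-- coordinates on `V` (an isometry with the standard form of plus type) -/
structure Coord {G : Type*} [Group G] {Q : Subgroup G} {z : G} (h : Large Q z) where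
  e : h.V ≃ₗ[ZMod 2] F8
  q : ∀ v, h.q v = qs (e v)

/-- `f` acts in the coordinates `φ` as the matrix `L` -/
def Acts {G : Type*} [Group G] {Q : Subgroup G} {z : G} {h : Large Q z} (φ : Coord h) (L : List ℕ)
    (f : h.V ≃ₗ[ZMod 2] h.V) : Prop :=
  ∀ v, φ.e (f v) = lin L (φ.e v)

/-- printed data of a configuration -/
structure Conf where
  X : List (List ℕ)
  N : List (List ℕ)
  M : List (List ℕ)

/-- in the coordinates `φ`, the pair `p` is of the given configuration: `ã = e₀`,
`D̃ = ⟨e₀, e₁, e₂, e₃⟩`, `X` contains the matrices `c.X` (so it is generated by them, `|X| = 8`), `H` contains the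
matrices `c.N` and is contained in the group generated by `c.X`, `c.N` and `c.M`. -/
structure IsConf {G : Type*} [Group G] {Q A : Subgroup G} {z a : G} (p : Pair Q z A a)
    (φ : Coord p.lz) (c : Conf) : Prop where
  va : φ.e p.va = vec 1
  D : ∀ v, v ∈ p.D ↔ φ.e v 4 = 0 ∧ φ.e v 5 = 0 ∧ φ.e v 6 = 0 ∧ φ.e v 7 = 0
  X : ∀ L ∈ c.X, ∃ f ∈ p.X, Acts φ L f
  N : ∀ L ∈ c.N, ∃ f ∈ p.H, Acts φ L f
  le : p.H ≤ Subgroup.closure {f | ∃ L ∈ c.X ++ c.N ++ c.M, Acts φ L f}

/-- `X` of type 0 -/
def X0 : List (List ℕ) :=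
  [[1,2,4,9,144,36,66,128], [1,2,5,8,80,40,64,130], [1,3,4,8,48,32,72,132]]
/-- `X` of type 1 -/
def X1 : List (List ℕ) :=
  [[1,2,4,9,144,36,66,128], [1,2,5,8,80,40,64,130], [1,3,4,8,51,33,72,132]]
/-- `X` of type 3 -/
def X3 : List (List ℕ) :=
  [[1,2,4,9,144,36,66,128], [1,2,5,8,88,40,64,131], [1,3,4,8,60,32,73,133]]
/-- `X` of type 4 -/
def X4 : List (List ℕ) :=
  [[1,2,4,9,153,36,66,129], [1,2,5,9,215,45,67,130], [1,3,4,9,179,37,74,132]]

/-- `3^4:2^3` (`|N| = 648`, 81 points, normaliser `N.24`): `PΩ₈⁺(3)` -/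
def confPO83 : Conf where
  X := X0
  N := [[65,8,30,2,16,192,64,96], [33,30,8,4,16,32,160,96], [165,24,14,18,16,204,90,102]]
  M := [[1,4,2,14,16,194,164,128], [1,8,14,2,16,194,64,104], [1,4,2,9,144,66,36,128],
    [1,2,14,8,16,104,64,194]]

/-- `S₃ × S₃ × S₃` (216, 27 points, normaliser `N.6`): `Ω₈⁺(2)` -/
def confOplus : Conf where
  X := X0
  N := [[3,2,132,72,16,48,64,128], [5,130,4,40,16,32,80,128], [9,66,36,8,16,32,64,144]]
  M := [[1,4,2,9,144,66,36,128], [1,2,8,4,16,32,128,64]]

/-- `S₃ × A₅` (360, 15 points, normaliser `N.2`): `Ω₈⁻(2)` -/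
def confOminus : Conf where
  X := X1
  N := [[123,144,20,36,16,28,194,18], [235,144,150,118,16,220,194,18], [225,210,56,52,16,32,128,64]]
  M := [[1,2,8,4,16,32,128,64]]

/-- `L₂(8)` (504, 9 points, normaliser `N.3`): `³D₄(2)` -/
def confD4 : Conf where
  X := X4
  N := [[215,128,20,48,16,24,80,2], [63,144,134,96,16,88,80,18], [245,208,190,112,16,72,80,66]]
  M := [[1,12,14,8,16,96,40,206]]

/-- `(A₅ × A₅).2` (7200, 75 points, normaliser `N.2`): `HN` -/
def confHN : Conf where
  X := X3
  N := [[129,6,4,24,16,32,96,128], [15,2,4,8,16,48,88,148], [73,10,20,8,16,32,64,176]]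
  M := [[1,10,12,8,16,40,64,234]]

/-- `A₉` (181440, 135 points, self-normalising): `Th` -/
def confTh : Conf where
  X := X4
  N := [[215,128,20,48,16,24,80,2], [63,144,134,96,16,88,80,18], [245,208,190,112,16,72,80,66],
    [1,2,6,8,26,103,66,129]]
  M := []

/-- kill k2: `S₃ × A₆` (2160, 45 points, normaliser `N.2`) -/
def confK2 : Conf where
  X := X0
  N := [[75,2,146,64,16,120,8,22], [45,148,4,32,16,8,120,22], [237,90,186,80,16,104,24,118]]
  M := [[1,4,2,9,144,66,36,128]]

/-- kill k3: order 2160, 45 points, normaliser `N.2` -/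
def confK3 : Conf where
  X := X1
  N := [[123,144,20,36,16,28,194,18], [235,144,150,118,16,220,194,18], [225,210,56,52,16,32,128,64],
    [7,128,134,96,16,88,80,2]]
  M := [[1,2,4,8,18,33,64,128]]

/-- kill k4: `S₇` on `4 ⊕ 4*` (5040, 105 points, self-normalising) -/
def confK4 : Conf where
  X := X0
  N := [[3,2,132,74,16,176,64,128], [115,146,20,44,16,48,192,128], [75,64,48,8,16,20,2,144]]
  M := []

/-- kill k5: order 720 (45 points, self-normalising) -/
def confK5 : Conf where
  X := X0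
  N := [[3,2,132,72,16,48,64,128], [5,130,4,40,16,32,80,128], [41,82,36,8,16,32,64,144]]
  M := []

end Cfsg.Agent.LargeExtra.Nine
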