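import Mathlib
set_option linter.all false

-- part: LargeExtra/Nine/UTree
section
/-!
# S1763 case I: orbits of `N₀ = U₄(2)` on the 1575 totally singular lines of `F₂^8` (helper71, generated)

Entry `(u, v, g, pu, pv)`: the line `⟨u, v⟩` (canonical basis) is mapped by the generator number `g` to the line
`⟨pu, pv⟩` of the previous level (and back: all generators are involutions).
-/

set_option autoImplicit false

namespace Cfsg.Agent.LargeExtra.Nine.UTree

/-- the six generators of `N₀`: `t_W`, `t_W'`, `x_4`, `x_8`, `x_64`, `x_128` -/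
def genN : List (List Nat) := [
  [1, 2, 4, 8, 18, 33, 64, 128],
  [33, 18, 4, 8, 16, 32, 64, 128],
  [1, 2, 4, 8, 20, 40, 65, 130],
  [1, 2, 4, 8, 24, 44, 66, 131],
  [1, 2, 7, 10, 80, 224, 64, 128],
  [1, 2, 6, 9, 144, 96, 64, 128]]

def T45 : List (List (Nat × Nat × Nat × Nat × Nat)) := [
  [(1,2,0,1,2)],
  [(18,33,1,1,2)],
  [(16,32,0,18,33), (22,41,2,18,33), (26,45,3,18,33), (82,179,4,18,33), (97,146,5,18,33)],
  [(20,40,2,16,32), (24,44,3,16,32), (80,176,4,16,32), (96,144,5,16,32), (6,9,1,22,41), (30,37,3,22,41), (85,190,4,22,41), (104,148,5,22,41), (7,10,1,26,45), (88,180,4,26,45), (110,155,5,26,45), (66,131,1,82,179), (87,189,2,82,179), (115,161,5,82,179), (65,130,1,97,146), (111,153,3,97,146)],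
  [(28,36,3,20,40), (105,150,5,20,40), (90,183,4,24,44), (112,160,5,80,176), (5,11,4,6,9), (4,8,5,6,9), (95,185,4,30,37), (103,157,5,30,37), (117,174,1,85,190), (125,170,5,85,190), (102,159,3,104,148), (93,186,2,88,180), (118,175,5,88,180), (126,171,1,110,155), (67,129,2,66,131), (64,128,3,66,131)],
  [(73,134,1,105,150), (74,135,1,90,183), (120,164,5,95,185), (123,165,3,125,170)],
  [(72,132,2,73,134), (75,133,3,73,134)]]

def TA4 : List (List (Nat × Nat × Nat × Nat × Nat)) := [
  [(1,4,0,1,4)],
  [(4,33,1,1,4), (1,6,4,1,4)],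
  [(4,32,0,4,33), (4,41,2,4,33), (7,225,4,4,33), (6,97,5,4,33), (22,33,1,1,6)],
  [(4,40,2,4,32), (7,224,4,4,32), (6,96,5,4,32), (4,9,1,4,41), (7,235,4,4,41), (6,104,5,4,41), (55,193,1,7,225), (7,234,2,7,225), (5,161,5,7,225), (22,65,1,6,97), (6,105,3,6,97), (20,32,0,22,33), (18,41,2,22,33), (30,45,3,22,33), (85,180,4,22,33), (97,148,5,22,33)],
  [(55,215,1,7,224), (5,160,5,7,224), (22,96,1,6,96), (7,11,4,4,9), (6,8,5,4,9), (55,219,1,7,235), (5,170,5,7,235), (22,104,1,6,104), (52,193,0,55,193), (59,194,2,55,193), (51,192,3,55,193), (117,180,4,55,193), (55,205,1,7,234), (5,171,5,7,234), (37,129,1,5,161), (20,65,0,22,65), (18,64,2,22,65), (30,67,3,22,65), (65,148,5,22,65), (22,73,1,6,105), (16,40,2,20,32), (28,44,3,20,32), (87,183,4,20,32), (96,150,5,20,32), (2,9,1,18,41), (26,37,3,18,41), (82,185,4,18,41), (104,146,5,18,41), (3,13,1,30,45), (95,179,4,30,45), (110,157,5,30,45), (80,186,2,85,180), (118,161,5,85,180), (111,159,3,97,148)],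
  [(52,213,0,55,215), (59,208,2,55,215), (51,222,3,55,215), (32,148,4,55,215), (85,160,5,55,215), (37,133,1,5,160), (20,97,0,22,96), (18,105,2,22,96), (30,110,3,22,96), (12,55,1,7,11), (5,10,5,7,11), (8,22,1,6,8), (52,217,0,55,219), (59,220,2,55,219), (51,210,3,55,219), (45,153,4,55,219), (90,175,5,55,219), (37,159,1,5,170), (20,105,0,22,104), (18,97,2,22,104), (30,102,3,22,104), (85,170,4,22,104), (41,148,5,22,104), (56,194,2,52,193), (48,192,3,52,193), (118,183,4,52,193), (11,210,1,59,194), (63,195,3,59,194), (123,185,4,59,194), (3,192,1,51,192), (115,179,4,51,192), (120,186,2,117,180), (52,205,0,55,205), (59,206,2,55,205), (51,204,3,55,205), (120,180,4,55,205), (37,155,1,5,171), (36,129,0,37,129), (45,131,2,37,129), (41,130,3,37,129), (103,129,4,37,129), (16,64,2,20,65), (28,67,3,20,65), (65,150,5,20,65), (2,64,1,18,64), (26,66,3,18,64), (64,146,5,18,64), (14,115,1,30,67), (67,157,5,30,67), (67,159,3,65,148), (20,73,0,22,73), (18,72,2,22,73), (30,75,3,22,73), (72,148,5,22,73), (24,36,3,16,40), (105,144,5,16,40), (93,176,4,28,44), (103,135,1,87,183),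 (117,160,5,87,183), (96,134,1,96,150), (2,8,5,2,9), (88,190,4,26,37), (103,155,5,26,37), (66,153,1,82,185), (120,170,5,82,185), (104,130,1,104,146), (102,153,3,104,146), (3,12,4,3,13), (111,131,1,95,179), (90,189,2,95,179), (115,175,5,95,179), (126,189,1,110,157), (80,170,1,80,186), (123,171,5,80,186), (102,129,1,118,161), (112,174,3,118,161), (95,175,1,111,159)],
  [(56,210,2,52,213), (48,220,3,52,213), (33,150,4,52,213), (87,161,5,52,213), (11,208,1,59,208), (63,217,3,59,208), (41,144,4,59,208), (3,205,1,51,222), (44,159,4,51,222), (93,174,5,51,222), (40,146,2,32,148), (36,133,0,37,133), (45,135,2,37,133), (41,134,3,37,133), (16,104,2,20,97), (28,111,3,20,97), (2,73,1,18,105), (26,103,3,18,105), (82,171,4,18,105), (14,112,1,30,110), (45,157,5,30,110), (12,52,0,12,55), (12,51,3,12,55), (13,180,4,12,55), (15,245,5,12,55), (8,20,0,8,22), (8,18,2,8,22), (10,85,4,8,22), (9,148,5,8,22), (56,222,2,52,217), (48,208,3,52,217), (44,155,4,52,217), (88,174,5,52,217), (11,215,1,59,220), (63,213,3,59,220), (36,157,4,59,220), (95,165,5,59,220), (3,193,1,51,210),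 (33,146,4,51,210), (82,161,5,51,210), (24,110,5,45,153), (74,159,1,90,175), (80,160,3,90,175), (28,103,5,37,159), (16,96,2,20,105), (87,171,4,20,105), (40,150,5,20,105), (2,65,1,18,97), (26,111,3,18,97), (14,118,1,30,102), (117,186,1,85,170), (60,215,5,85,170), (60,195,3,56,194), (112,176,4,48,192), (102,135,1,118,183), (11,213,2,11,210), (9,146,4,11,210), (10,82,5,11,210), (15,243,1,63,195), (125,190,4,63,195), (75,153,1,123,185), (67,131,1,115,179), (56,206,2,52,205), (48,204,3,52,205), (123,183,4,52,205), (63,207,3,59,206), (118,185,4,59,206), (3,204,1,51,204), (126,179,4,51,204), (60,207,5,51,204), (36,153,0,37,155), (44,131,2,36,129), (40,130,3,36,129), (13,179,1,45,131), (33,128,3,45,131), (110,131,5,45,131), (105,130,4,41,130), (24,66,3,16,64), (64,144,5,16,64), (97,134,1,65,150), (66,155,5,26,66), (64,130,1,64,146), (14,117,3,14,115), (115,189,1,67,157), (16,72,2,20,73), (28,75,3,20,73), (72,150,5,20,73), (2,72,1,18,72), (26,74,3,18,72), (24,74,4,18,72), (73,146,5,18,72), (74,157,5,30,75), (73,144,1,105,144), (125,176,1,93,176), (110,133,2,103,135),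 (105,132,3,103,135), (32,132,4,103,135), (125,164,5,88,190), (126,165,3,120,170), (97,128,2,104,130), (90,165,3,80,170), (75,155,1,123,171), (112,190,1,112,174)],
  [(60,219,3,56,210), (1,134,1,33,150), (9,144,4,11,208), (10,80,5,11,208), (15,246,1,63,217), (88,164,5,63,217), (44,135,2,36,133), (40,134,3,36,133), (13,183,1,45,135), (33,132,3,45,135), (104,132,4,45,135), (9,150,1,41,134), (24,102,3,16,104), (10,87,1,26,103), (15,240,4,14,112), (13,176,5,14,112), (12,48,3,12,52), (8,16,2,8,20), (93,164,5,56,222), (32,144,4,48,208), (111,133,1,95,165), (1,130,1,33,146), (66,129,1,82,161), (65,128,3,67,131), (75,135,1,123,183), (32,128,3,44,131), (1,128,1,33,128), (96,128,3,110,131), (72,134,1,72,150), (73,132,1,105,132), (74,133,1,90,165)],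
  [(1,132,2,1,134)]]

def TA8 : List (List (Nat × Nat × Nat × Nat × Nat)) := [
  [(1,8,0,1,8)],
  [(8,33,1,1,8), (1,10,4,1,8)],
  [(8,32,0,8,33), (8,37,3,8,33), (10,225,4,8,33), (9,97,5,8,33), (26,33,1,1,10)],
  [(8,36,3,8,32), (10,224,4,8,32), (9,96,5,8,32), (5,8,1,8,37), (10,230,4,8,37), (9,103,5,8,37), (26,193,1,10,225), (11,161,5,10,225), (41,65,1,9,97), (9,102,3,9,97), (24,32,0,26,33), (30,41,2,26,33), (18,45,3,26,33), (88,185,4,26,33), (97,155,5,26,33)],
  [(10,231,4,8,36), (26,224,1,10,224), (11,160,5,10,224), (41,73,1,9,96), (6,10,4,5,8), (7,9,5,5,8), (26,236,1,10,230), (11,164,5,10,230), (41,87,1,9,103), (24,193,0,26,193), (30,194,2,26,193), (18,192,3,26,193), (88,153,4,26,193), (90,155,5,26,193), (59,129,1,11,161), (11,165,3,11,161), (40,65,0,41,65), (33,64,2,41,65), (37,67,3,41,65), (65,170,4,41,65), (41,95,1,9,102), (28,40,2,24,32), (16,44,3,24,32), (90,186,4,24,32), (96,153,5,24,32), (22,37,3,30,41), (95,180,4,30,41), (104,157,5,30,41), (2,13,1,18,45), (82,190,4,18,45), (110,146,5,18,45), (93,183,2,88,185), (120,161,5,88,185), (65,171,1,97,155),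 (111,144,3,97,155)],
  [(26,205,1,10,231), (24,225,0,26,224), (30,235,2,26,224), (18,237,3,26,224), (32,88,4,26,224), (59,155,5,26,224), (40,73,0,41,73), (33,72,2,41,73), (37,75,3,41,73), (75,160,4,41,73), (32,72,5,41,73), (12,22,1,6,10), (4,11,5,6,10), (24,237,0,26,236), (30,231,2,26,236), (18,225,3,26,236), (45,88,4,26,236), (52,155,5,26,236), (59,159,1,11,164), (40,85,0,41,87), (33,82,2,41,87), (37,93,3,41,87), (20,235,4,41,87), (104,189,5,41,87), (28,194,2,24,193), (16,192,3,24,193), (14,210,1,30,194), (22,195,3,30,194), (95,157,4,30,194), (2,192,1,18,192), (82,146,4,18,192), (93,159,2,88,153), (74,171,1,90,155), (80,144,3,90,155), (56,129,0,59,129), (55,131,2,59,129), (63,130,3,59,129), (123,129,5,59,129), (59,133,1,11,165), (32,64,2,40,65), (36,67,3,40,65), (1,64,1,33,64), (45,66,3,33,64), (64,161,4,33,64), (5,115,1,37,67), (67,165,4,37,67), (97,186,1,65,170), (64,160,2,65,170), (40,93,0,41,95), (33,90,2,41,95), (37,85,3,41,95), (104,180,5,41,95), (20,36,3,28,40), (105,159,5,28,40), (80,189,4,16,44), (74,170,1,90,186), (123,160,5,90,186), (96,185,1,96,153),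 (3,5,1,22,37), (85,179,4,22,37), (103,148,5,22,37), (111,180,1,95,180), (118,170,5,95,180), (102,150,3,104,157), (2,12,4,2,13), (66,174,1,82,190), (87,176,2,82,190), (125,175,5,82,190), (126,130,1,110,146), (125,135,1,93,183), (117,171,5,93,183), (120,129,1,120,161), (126,174,3,120,161), (67,164,3,65,171), (95,144,1,111,144)],
  [(24,205,0,26,205), (30,206,2,26,205), (18,204,3,26,205), (88,148,4,26,205), (85,155,5,26,205), (28,234,2,24,225), (16,236,3,24,225), (56,153,5,24,225), (14,213,1,30,235), (22,230,3,30,235), (55,157,5,30,235), (2,205,1,18,237), (44,82,4,18,237), (60,146,5,18,237), (63,144,3,59,155), (36,75,3,40,73), (75,161,4,40,73), (1,72,1,33,72), (45,74,3,33,72), (5,123,1,37,75), (73,175,4,37,75), (44,74,3,32,72), (12,20,0,12,22), (12,18,2,12,22), (13,85,4,12,22), (15,148,5,12,22), (4,59,1,4,11), (28,230,2,24,237), (16,224,3,24,237), (44,90,4,24,237), (55,153,5,24,237), (14,215,1,30,231), (22,234,3,30,231), (36,95,4,30,231), (56,157,5,30,231), (2,193,1,18,225), (51,146,5,18,225), (110,183,5,45,88), (52,159,1,52,155), (48,144,3,52,155),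 (63,148,3,59,159), (103,185,4,59,159), (32,80,2,40,85), (105,190,5,40,85), (1,66,1,33,82), (97,179,5,33,82), (5,120,1,37,93), (20,207,1,20,235), (60,150,5,20,235), (102,186,3,104,189), (28,206,1,28,194), (20,195,3,28,194), (14,208,0,14,210), (15,146,4,14,210), (13,82,5,14,210), (6,243,1,22,195), (85,150,4,22,195), (87,148,5,22,195), (111,189,1,95,157), (66,130,1,82,146), (72,164,3,74,171), (52,131,2,56,129), (60,130,3,56,129), (7,179,1,55,131), (51,128,3,55,131), (118,131,5,55,131), (125,130,3,123,129), (56,133,0,59,133), (55,135,2,59,133), (63,134,3,59,133), (44,66,3,32,64), (36,87,1,36,67), (64,129,1,64,161), (5,112,0,5,115), (115,133,1,67,165), (66,175,2,67,165), (105,183,5,40,93), (1,74,1,33,90), (45,80,3,33,90), (103,176,5,37,85), (102,179,3,104,180), (80,157,1,80,189), (72,165,3,74,170), (110,190,3,96,185), (3,4,5,3,5), (117,131,1,85,179), (115,164,5,85,179), (112,165,3,118,170), (118,134,1,102,150), (115,128,2,126,130), (126,135,0,125,135), (112,133,2,125,135), (123,132,3,125,135), (120,132,4,125,135), (93,146,0,95,144), (90,150,2,95,144),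 (16,204,5,95,144)],
  [(87,153,5,24,205), (22,207,3,30,206), (2,204,1,18,204), (82,159,4,18,204), (20,231,3,28,234), (15,150,4,14,213), (13,87,5,14,213), (6,240,1,22,230), (48,148,5,22,230), (7,186,1,55,157), (51,150,3,55,157), (15,144,1,63,144), (73,174,4,36,75), (6,249,4,5,123), (12,16,2,12,20), (13,80,2,13,85), (4,56,0,4,59), (4,51,2,4,59), (7,185,4,4,59), (6,250,5,4,59), (3,129,1,51,146), (96,176,3,110,183), (65,131,1,97,179), (60,134,1,60,150), (117,134,1,85,150), (67,128,2,66,130), (52,135,1,52,131), (48,128,3,52,131), (7,176,0,7,179), (3,128,1,51,128), (112,128,3,118,131), (51,132,3,55,135), (48,132,4,55,135), (73,135,1,105,183), (72,133,1,72,165), (75,132,1,123,132), (74,134,1,90,150)],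
  [(4,48,5,6,240), (3,133,1,51,150), (3,132,1,51,132)]]

def TA12 : List (List (Nat × Nat × Nat × Nat × Nat)) := [
  [(1,12,0,1,12)],
  [(12,33,1,1,12), (1,14,5,1,12)],
  [(12,32,0,12,33), (12,37,2,12,33), (13,225,4,12,33), (15,97,5,12,33), (30,33,1,1,14)],
  [(12,36,2,12,32), (13,224,4,12,32), (15,96,5,12,32), (5,9,1,12,37), (13,230,4,12,37), (15,103,5,12,37), (45,193,1,13,225), (13,231,2,13,225), (14,161,5,13,225), (63,65,1,15,97), (28,32,0,30,33), (26,41,2,30,33), (22,45,3,30,33), (95,190,4,30,33), (97,157,5,30,33)],
  [(15,102,5,12,36), (45,205,1,13,224), (14,160,5,13,224), (63,95,1,15,96), (6,11,4,5,9), (7,8,5,5,9), (45,219,1,13,230), (14,164,5,13,230), (63,87,1,15,103), (44,193,0,45,193), (37,194,2,45,193), (33,192,3,45,193), (110,175,5,45,193), (45,215,1,13,231), (14,165,5,13,231), (30,129,1,14,161), (60,65,0,63,65), (51,64,2,63,65), (59,67,3,63,65), (65,190,4,63,65), (65,189,5,63,65), (24,40,2,28,32), (20,44,3,28,32), (93,189,4,28,32), (96,159,5,28,32), (3,9,1,26,41), (18,37,3,26,41), (88,179,4,26,41), (104,155,5,26,41), (85,185,4,22,45),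 (110,148,5,22,45), (111,174,1,95,190), (90,176,2,95,190), (125,161,5,95,190), (111,150,3,97,157)],
  [(63,73,1,15,102), (44,205,0,45,205), (37,206,2,45,205), (33,204,3,45,205), (32,204,4,45,205), (110,160,5,45,205), (30,160,1,14,160), (60,93,0,63,95), (51,90,2,63,95), (59,85,3,63,95), (32,220,5,63,95), (4,10,5,6,11), (8,55,1,7,8), (44,217,0,45,219), (37,220,2,45,219), (33,210,3,45,219), (117,153,4,45,219), (52,90,5,45,219), (30,164,1,14,164), (60,85,0,63,87), (51,82,2,63,87), (59,93,3,63,87), (20,170,4,63,87), (41,213,5,63,87), (36,194,2,44,193), (32,192,3,44,193), (5,210,1,37,194), (41,195,3,37,194), (103,165,5,37,194), (1,192,1,33,192), (97,161,5,33,192), (126,159,1,110,175), (96,160,3,110,175), (44,213,0,45,215), (37,208,2,45,215), (33,222,3,45,215), (120,148,4,45,215), (30,133,1,14,165), (28,129,0,30,129), (26,131,2,30,129), (22,130,3,30,129), (95,129,4,30,129), (48,64,2,60,65), (56,67,3,60,65), (3,64,1,51,64), (55,66,3,51,64), (64,179,4,51,64), (11,115,1,59,67), (67,185,4,59,67), (97,174,1,65,190), (64,176,2,65,190), (67,186,3,65,189), (16,36,3,24,40),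 (105,153,5,24,40), (87,186,4,20,44), (125,157,1,93,189), (126,160,5,93,189), (96,175,1,96,159), (3,8,4,3,9), (2,5,1,18,37), (82,180,4,18,37), (103,146,5,18,37), (88,131,1,88,179), (115,170,5,88,179), (104,171,1,104,155), (102,144,3,104,155), (80,183,2,85,185), (120,175,5,85,185), (126,148,1,110,148), (102,164,2,111,174), (74,176,1,90,176), (112,171,5,90,176), (93,129,1,125,161), (123,174,3,125,161), (95,134,1,111,150)],
  [(60,73,0,63,73), (51,72,2,63,73), (59,75,3,63,73), (75,190,4,63,73), (72,180,5,63,73), (36,206,2,44,205), (111,161,5,44,205), (5,219,1,37,206), (41,207,3,37,206), (103,170,5,37,206), (1,204,1,33,204), (40,207,2,32,204), (28,161,0,30,160), (26,170,2,30,160), (22,175,3,30,160), (48,88,2,60,93), (56,87,3,60,93), (3,73,1,51,90), (55,80,3,51,90), (24,171,4,51,90), (40,219,5,51,90), (11,117,1,59,85), (4,26,1,4,10), (8,52,0,8,55), (8,51,2,8,55), (10,180,4,8,55), (9,245,5,8,55), (36,222,2,44,217), (32,208,3,44,217), (118,155,4,44,217), (55,88,5,44,217), (5,217,1,37,220), (123,157,4,37,220), (56,95,5,37,220), (1,194,1,33,210), (115,146,4,33,210),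 (120,159,2,117,153), (24,175,5,117,153), (52,74,1,52,90), (48,80,3,52,90), (28,165,0,30,164), (26,174,2,30,164), (22,171,3,30,164), (40,215,5,60,85), (3,65,1,51,82), (18,161,4,51,82), (11,118,1,59,93), (20,174,1,20,170), (16,160,2,20,170), (125,150,5,20,170), (36,210,1,36,194), (40,195,3,36,194), (5,208,0,5,210), (6,146,4,5,210), (7,82,5,5,210), (9,243,1,41,195), (87,133,1,103,165), (105,170,3,103,165), (65,129,1,97,161), (115,153,2,126,159), (123,150,4,44,213), (41,217,3,37,208), (118,144,4,37,208), (1,206,1,33,222), (117,146,2,120,148), (28,133,0,30,133), (26,135,2,30,133), (22,134,3,30,133), (24,131,2,28,129), (20,130,3,28,129), (10,179,1,26,131), (18,128,3,26,131), (85,130,4,22,130), (90,131,2,95,129), (52,66,3,48,64), (56,75,1,56,67), (66,180,4,55,66), (66,183,5,55,66), (64,131,1,64,179), (11,112,0,11,115), (104,164,2,97,174), (73,185,1,105,153), (112,155,2,125,157), (105,165,2,96,175), (2,4,4,2,5), (118,164,5,82,180), (87,130,1,103,146), (82,128,3,88,131), (117,165,3,115,170), (80,135,1,80,183), (74,179,0,74,176), (72,183,3,74,176), (48,72,4,74,176),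 (93,134,0,95,134), (90,132,2,95,134), (85,133,3,95,134), (88,132,5,95,134)],
  [(75,189,4,60,73), (3,72,1,51,72), (55,74,3,51,72), (73,186,5,51,72), (102,171,5,36,206), (6,153,4,5,219), (7,90,5,5,219), (9,246,1,41,207), (10,176,1,26,170), (18,165,3,26,170), (52,82,3,48,88), (7,80,1,55,80), (16,164,4,55,80), (10,183,5,11,117), (4,24,0,4,26), (4,18,3,4,26), (7,88,4,4,26), (6,155,5,4,26), (8,48,2,8,52), (9,240,3,9,245), (112,144,4,32,208), (67,130,1,115,146), (24,135,1,24,175), (2,129,1,18,161), (6,144,4,5,208), (82,135,2,87,133), (20,134,4,87,133), (75,134,1,123,150), (18,132,3,26,135), (16,132,5,22,134), (16,128,3,24,131), (2,128,1,18,128), (80,128,2,85,130), (66,128,3,64,131), (73,133,1,105,165), (72,135,1,72,183), (74,132,1,90,132)],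
  [(2,133,1,18,165), (4,16,4,7,80), (2,132,1,18,132)]]

def TB : List (List (Nat × Nat × Nat × Nat × Nat)) := [
  [(1,32,0,1,32)],
  [(1,40,2,1,32), (1,44,3,1,32), (1,224,4,1,32), (1,96,5,1,32)],
  [(9,33,1,1,40), (1,36,3,1,40), (1,234,4,1,40), (1,104,5,1,40), (13,33,1,1,44), (1,236,4,1,44), (1,110,5,1,44), (33,193,1,1,224), (1,160,5,1,224), (33,65,1,1,96)],
  [(9,32,0,9,33), (9,36,3,9,33), (11,225,4,9,33), (8,97,5,9,33), (5,33,1,1,36), (1,230,4,1,36), (1,102,5,1,36), (33,219,1,1,234), (1,170,5,1,234), (33,73,1,1,104), (13,32,0,13,33), (13,36,2,13,33), (12,225,4,13,33), (14,97,5,13,33), (33,205,1,1,236), (1,174,5,1,236), (33,95,1,1,110), (32,193,0,33,193), (41,194,2,33,193), (45,192,3,33,193), (97,160,5,33,193), (33,129,1,1,160), (32,65,0,33,65), (41,64,2,33,65), (45,67,3,33,65), (65,160,4,33,65)],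
  [(9,37,3,9,32), (11,224,4,9,32), (8,96,5,9,32), (11,231,4,9,36), (8,102,5,9,36), (59,193,1,11,225), (10,161,5,11,225), (8,65,1,8,97), (8,103,3,8,97), (5,32,0,5,33), (5,41,2,5,33), (5,40,3,5,33), (6,225,4,5,33), (7,97,5,5,33), (33,215,1,1,230), (1,164,5,1,230), (33,87,1,1,102), (32,217,0,33,219), (41,220,2,33,219), (45,210,3,33,219), (120,153,4,33,219), (59,90,5,33,219), (33,155,1,1,170), (32,73,0,33,73), (41,72,2,33,73), (45,75,3,33,73), (75,170,4,33,73), (13,37,2,13,32), (12,224,4,13,32), (14,96,5,13,32), (12,231,4,13,36), (14,102,5,13,36), (12,193,1,12,225), (12,230,2,12,225), (15,161,5,12,225), (30,65,1,14,97), (32,205,0,33,205), (41,206,2,33,205), (45,204,3,33,205), (97,175,5,33,205), (33,159,1,1,174), (32,93,0,33,95), (41,90,2,33,95), (45,85,3,33,95), (30,225,4,33,95), (97,189,5,33,95), (40,194,2,32,193), (44,192,3,32,193), (96,161,5,32,193), (9,210,1,41,194), (37,195,3,41,194), (104,170,5,41,194), (13,192,1,45,192), (110,174,5,45,192), (111,175,3,97,160), (32,129,0,33,129), (41,131,2,33,129), (45,130,3,33,129), (96,129,4,33,129), (97,129,5,33,129),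 (40,64,2,32,65), (44,67,3,32,65), (65,161,4,32,65), (9,64,1,41,64), (37,66,3,41,64), (64,171,4,41,64), (13,115,1,45,67), (67,175,4,45,67), (64,170,2,65,160)],
  [(11,230,4,9,37), (59,219,1,11,224), (10,160,5,11,224), (59,215,1,11,231), (10,165,5,11,231), (8,118,1,8,102), (56,193,0,59,193), (55,194,2,59,193), (63,192,3,59,193), (120,185,4,59,193), (26,129,1,10,161), (10,164,3,10,161), (8,64,2,8,65), (8,67,3,8,65), (10,65,4,8,65), (9,65,5,8,65), (8,87,1,8,103), (6,224,4,5,32), (7,96,5,5,32), (6,235,4,5,41), (7,104,5,5,41), (6,234,4,5,40), (7,105,5,5,40), (22,193,1,6,225), (4,161,5,6,225), (55,65,1,7,97), (32,213,0,33,215), (41,208,2,33,215), (45,222,3,33,215), (117,148,4,33,215), (52,85,5,33,215), (33,133,1,1,164), (32,85,0,33,87), (41,82,2,33,87), (45,93,3,33,87), (20,225,4,33,87), (97,180,5,33,87), (40,222,2,32,217), (44,208,3,32,217), (123,155,4,32,217), (56,88,5,32,217), (9,213,1,41,220), (37,213,3,41,220), (118,157,4,41,220), (55,95,5,41,220), (13,194,1,45,210), (126,146,4,45,210), (60,82,5,45,210), (117,159,2,120,153), (24,161,5,120,153), (11,65,1,59,90),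 (63,80,3,59,90), (32,153,0,33,155), (41,157,2,33,155), (45,144,3,33,155), (56,217,4,33,155), (26,97,5,33,155), (40,72,2,32,73), (44,75,3,32,73), (75,171,4,32,73), (37,74,3,41,72), (74,161,4,41,72), (13,118,1,45,75), (73,165,4,45,75), (36,74,5,45,75), (123,186,1,75,170), (74,160,2,75,170), (14,103,5,13,37), (15,160,5,12,224), (30,96,1,14,96), (12,215,1,12,231), (15,165,5,12,231), (30,104,1,14,102), (12,194,2,12,193), (12,192,3,12,193), (13,193,4,12,193), (15,193,5,12,193), (12,246,1,12,230), (15,164,5,12,230), (63,129,1,15,161), (28,65,0,30,65), (26,64,2,30,65), (22,67,3,30,65), (65,157,5,30,65), (40,206,2,32,205), (44,204,3,32,205), (96,174,5,32,205), (9,215,1,41,206), (37,207,3,41,206), (36,207,4,41,206), (104,165,5,41,206), (110,161,5,45,204), (65,159,1,97,175), (111,160,3,97,175), (32,157,0,33,159), (41,153,2,33,159), (45,148,3,33,159), (63,222,4,33,159), (28,97,5,33,159), (40,88,2,32,93), (44,87,3,32,93), (28,224,4,32,93), (96,190,5,32,93), (9,67,1,41,90), (37,80,3,41,90), (24,235,4,41,90), (104,179,5,41,90), (13,117,1,45,85), (22,236,4,45,85),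 (110,185,5,45,85), (14,193,1,30,225), (26,234,2,30,225), (60,157,5,30,225), (111,186,3,97,189), (40,210,1,40,194), (36,195,3,40,194), (105,171,5,40,194), (9,208,0,9,210), (11,146,4,9,210), (8,82,5,9,210), (5,243,1,37,195), (103,164,5,37,195), (104,186,1,104,170), (102,165,3,104,170), (13,195,2,13,192), (14,192,5,13,192), (126,190,1,110,174), (95,159,1,111,175), (40,131,2,32,129), (44,130,3,32,129), (9,179,1,41,131), (37,128,3,41,131), (104,131,4,41,131), (13,146,1,45,130), (110,130,4,45,130), (105,131,2,96,129), (111,130,3,97,129), (36,66,3,40,64), (44,95,1,44,67), (67,174,4,44,67), (9,66,3,9,64), (11,64,4,9,64), (5,82,1,37,66), (66,164,4,37,66), (64,155,1,64,171), (13,112,0,13,115), (12,243,4,13,115), (14,179,5,13,115), (115,159,1,67,175), (66,165,2,67,175), (64,186,1,64,170)],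
  [(59,205,1,11,230), (55,220,2,59,219), (63,210,3,59,219), (90,160,5,59,219), (26,160,1,10,160), (56,213,0,59,215), (55,208,2,59,215), (85,175,5,59,215), (26,133,1,10,165), (8,117,0,8,118), (8,115,2,8,118), (8,112,3,8,118), (10,245,4,8,118), (9,180,5,8,118), (52,194,2,56,193), (60,192,3,56,193), (7,210,1,55,194), (51,195,3,55,194), (118,180,4,55,194), (15,192,1,63,192), (117,183,2,120,185), (24,129,0,26,129), (30,131,2,26,129), (18,130,3,26,129), (88,129,4,26,129), (26,164,1,10,164), (8,66,3,8,64), (10,64,4,8,64), (10,67,4,8,67), (8,85,0,8,87), (10,20,4,8,87), (22,224,1,6,224), (4,160,5,6,224), (55,87,1,7,96), (22,205,1,6,235), (4,170,5,6,235), (4,171,5,6,234), (55,73,1,7,105), (20,193,0,22,193), (18,194,2,22,193), (30,192,3,22,193), (85,148,4,22,193), (4,129,1,4,161), (52,65,0,55,65), (59,64,2,55,65), (51,67,3,55,65), (65,180,4,55,65), (44,220,3,32,213), (118,150,4,32,213), (37,217,3,41,208), (123,144,4,41,208), (56,80,5,41,208), (51,93,5,45,222), (120,146,2,117,148), (22,161,5,117,148), (48,95,3,52,85), (32,133,0,33,133), (41,135,2,33,133), (45,134,3,33,133),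 (103,134,4,33,133), (97,135,5,33,133), (40,80,2,32,85), (96,183,5,32,85), (37,88,3,41,82), (18,235,4,41,82), (28,236,4,45,93), (110,176,5,45,93), (16,234,2,20,225), (55,150,5,20,225), (111,179,3,97,180), (36,215,3,40,222), (52,93,5,40,222), (125,144,4,44,208), (11,150,4,9,213), (5,240,1,37,213), (112,150,4,37,213), (48,87,5,37,213), (102,189,1,118,157), (30,170,5,118,157), (51,85,3,55,95), (14,194,5,13,194), (115,148,2,126,146), (18,175,5,126,146), (60,66,1,60,82), (28,171,5,117,159), (16,174,3,24,161), (11,67,3,11,65), (15,80,1,63,80), (40,159,2,32,153), (44,146,3,32,153), (24,96,5,32,153), (37,150,3,41,157), (13,144,1,45,144), (60,208,4,45,144), (16,110,5,45,144), (52,222,2,56,217), (88,161,5,56,217), (18,111,3,26,97), (73,164,4,44,75), (5,90,1,37,74), (72,174,4,37,74), (90,129,1,74,161), (12,245,4,13,118), (14,180,5,13,118), (105,133,1,73,165), (72,175,2,73,165), (36,90,1,36,74), (125,189,3,123,186), (30,73,1,14,103), (63,159,1,15,160), (26,105,2,30,96), (22,110,3,30,96), (95,160,4,30,96), (12,213,0,12,215), (12,208,2,12,215), (12,210,3,12,215),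 (13,148,4,12,215), (15,85,5,12,215), (63,133,1,15,165), (28,105,0,30,104), (22,102,3,30,104), (95,170,4,30,104), (12,195,3,12,194), (15,194,5,12,194), (15,52,5,12,246), (63,155,1,15,164), (60,129,0,63,129), (51,131,2,63,129), (59,130,3,63,129), (125,129,5,63,129), (24,64,2,28,65), (20,67,3,28,65), (18,66,3,26,64), (6,115,1,22,67), (67,148,5,22,67), (67,150,3,65,157), (105,164,5,40,206), (11,148,4,9,215), (5,250,1,37,207), (103,171,5,37,207), (36,219,1,36,207), (102,170,5,36,207), (104,133,1,104,165), (126,129,1,110,161), (64,153,2,65,159), (40,155,2,32,157), (44,150,3,32,157), (60,220,4,32,157), (9,176,1,41,153), (37,146,3,41,153), (48,219,4,41,153), (24,104,5,41,153), (51,217,2,63,222), (93,161,5,63,222), (20,111,3,28,97), (36,82,3,40,88), (105,176,5,40,88), (20,237,4,44,87), (5,80,1,37,80), (16,230,4,37,80), (103,183,5,37,80), (24,195,1,24,235), (51,153,5,24,235), (102,180,3,104,179), (14,183,5,13,117), (18,231,2,22,236), (59,148,5,22,236), (126,153,1,110,185), (10,240,1,26,234), (48,155,5,26,234), (56,150,3,60,157), (59,82,5,40,210), (73,155,1,105,171),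 (11,144,4,9,208), (8,80,5,9,208), (10,18,5,11,146), (5,249,2,5,243), (7,51,5,5,243), (87,164,1,103,164), (105,185,0,104,186), (56,146,4,104,186), (118,133,1,102,165), (14,195,5,13,195), (115,176,2,126,190), (93,157,0,95,159), (90,153,2,95,159), (28,192,5,95,159), (36,128,3,40,131), (11,51,4,9,179), (5,128,1,37,128), (102,128,4,37,128), (103,128,5,37,128), (14,18,5,13,146), (73,179,1,105,131), (95,146,1,111,130), (30,237,4,44,95), (115,190,1,67,174), (11,66,4,9,66), (5,88,3,5,82), (6,18,4,5,82), (82,164,1,66,164), (66,144,3,64,155), (12,240,4,13,112), (14,176,5,13,112), (15,51,5,12,243), (112,157,0,115,159), (28,175,5,115,159), (82,133,1,66,165), (64,185,0,64,186), (66,189,3,64,186), (56,64,4,64,186)],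
  [(56,205,0,59,205), (55,206,2,59,205), (63,204,3,59,205), (117,185,4,59,205), (52,206,5,59,205), (7,219,1,55,220), (51,213,3,55,220), (82,174,5,63,210), (80,175,3,90,160), (52,210,2,56,213), (87,174,5,56,213), (7,208,1,55,208), (36,144,4,55,208), (80,165,5,55,208), (24,133,0,26,133), (30,135,2,26,133), (18,134,3,26,133), (88,134,4,26,133), (28,135,5,26,133), (10,246,4,8,117), (9,183,5,8,117), (10,243,4,8,115), (26,207,1,10,245), (11,55,5,10,245), (48,195,3,52,194), (4,146,4,7,210), (3,240,1,51,195), (112,179,4,51,195), (15,195,2,15,192), (85,135,1,117,183), (28,131,2,24,129), (16,130,3,24,129), (22,128,3,30,131), (95,131,4,30,131), (2,144,1,18,130), (82,130,4,18,130), (93,131,2,88,129), (24,165,0,26,164), (30,174,2,26,164), (18,171,3,26,164), (63,88,4,26,164), (125,155,5,26,164), (10,66,4,8,66), (10,22,4,8,85), (14,20,1,10,20), (10,16,2,10,20), (52,148,5,22,224), (20,160,4,55,87), (20,205,0,22,205), (18,206,2,22,205), (30,204,3,22,205), (85,153,4,22,205), (90,148,5,22,205), (4,186,1,4,170), (4,155,1,4,171), (52,73,0,55,73), (59,72,2,55,73), (51,75,3,55,73),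 (75,180,4,55,73), (72,189,5,55,73), (16,194,2,20,193), (87,150,4,20,193), (2,208,1,18,194), (26,195,3,18,194), (82,144,4,18,194), (80,146,5,18,194), (4,131,2,4,129), (4,130,3,4,129), (7,129,4,4,129), (6,129,5,4,129), (48,67,3,52,65), (65,183,4,52,65), (63,66,3,59,64), (3,112,1,51,67), (67,179,4,51,67), (67,176,5,51,67), (102,134,1,118,150), (75,144,1,123,144), (16,170,5,123,144), (60,90,3,56,80), (3,125,1,51,93), (120,130,1,120,146), (40,135,2,32,133), (44,134,3,32,133), (96,135,5,32,133), (37,132,3,41,135), (111,132,4,41,135), (13,150,1,45,134), (110,132,5,45,134), (26,230,4,37,88), (103,190,5,37,88), (2,217,1,18,235), (24,231,2,28,236), (48,159,5,28,236), (126,176,1,110,176), (59,144,5,16,234), (51,157,3,55,150), (93,144,1,125,144), (59,134,1,11,150), (6,112,4,5,240), (7,48,5,5,240), (112,134,1,112,150), (20,164,5,112,150), (60,153,4,102,189), (22,165,3,30,170), (3,117,1,51,85), (2,157,1,18,175), (15,82,0,15,80), (14,16,4,15,80), (36,148,3,40,159), (5,131,1,37,150), (20,103,5,37,150), (48,215,2,60,208), (93,171,5,52,222), (2,93,1,18,111), (6,24,4,5,90),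 (72,190,1,72,174), (80,130,3,90,129), (15,55,5,12,245), (72,159,1,72,175), (28,73,0,30,73), (26,72,2,30,73), (22,75,3,30,73), (20,75,4,30,73), (72,157,5,30,73), (18,103,3,26,105), (88,171,4,26,105), (6,120,1,22,110), (90,170,2,95,160), (15,87,5,12,213), (14,22,5,13,148), (63,74,1,15,85), (60,133,0,63,133), (51,135,2,63,133), (56,134,4,63,133), (123,135,5,63,133), (85,165,4,22,102), (11,52,1,15,52), (15,48,3,15,52), (48,131,2,60,129), (56,130,3,60,129), (3,176,1,51,131), (55,128,3,51,131), (112,131,5,51,131), (123,130,3,125,129), (16,66,3,24,64), (2,80,1,18,66), (66,146,5,18,66), (4,179,5,6,115), (115,134,1,67,150), (7,59,5,5,250), (87,155,1,103,171), (118,186,1,102,170), (115,131,2,126,129), (11,48,4,9,176), (5,130,1,37,146), (16,102,3,24,104), (3,249,1,51,217), (73,176,1,105,176), (6,16,4,5,80), (52,144,5,16,230), (87,135,1,103,183), (3,185,1,51,153), (55,146,3,51,153), (2,213,1,18,231), (73,153,0,73,155), (75,146,4,73,155), (2,24,1,10,18), (6,123,4,5,249), (7,56,5,5,249), (3,52,1,7,51), (117,133,0,118,133), (88,155,2,93,157), (74,185,1,90,153),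 (3,56,1,11,51), (6,128,4,5,128), (7,128,5,5,128), (118,128,1,102,128), (87,128,1,103,128), (2,28,1,14,18), (112,189,0,115,190), (125,179,5,115,190), (6,26,4,5,88), (7,217,5,5,88), (2,20,1,6,18), (3,60,1,15,51), (80,133,0,82,133), (66,190,3,64,185), (82,157,1,66,189)],
  [(60,204,3,56,205), (51,207,3,55,206), (123,180,4,55,206), (120,183,2,117,185), (48,207,3,52,206), (4,153,4,7,219), (3,245,1,51,213), (80,159,1,80,175), (4,144,4,7,208), (16,134,3,24,133), (90,134,4,24,133), (22,132,3,30,135), (95,132,4,30,135), (2,148,1,18,134), (88,150,1,88,134), (93,132,2,88,134), (20,132,3,28,135), (24,207,0,26,207), (3,252,2,3,240), (3,48,5,3,240), (20,128,3,28,131), (85,128,4,22,128), (2,153,3,2,144), (2,16,5,2,144), (16,206,2,20,205), (28,204,3,20,205), (2,220,1,18,206), (74,148,1,90,148), (4,185,0,4,186), (4,176,2,4,186), (56,72,2,52,73), (48,75,3,52,73), (75,183,4,52,73), (3,120,1,51,75), (74,186,2,75,180), (60,74,5,75,180), (4,128,3,4,131), (7,131,4,4,131), (6,131,5,4,131), (7,130,4,4,130), (6,130,5,4,130), (5,129,5,7,129), (36,132,5,102,134), (74,150,2,75,144),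 (16,74,5,75,144), (3,189,5,3,125), (117,128,2,120,130), (126,132,1,110,132), (2,88,5,2,217), (55,132,2,59,134), (125,132,2,112,134), (52,132,5,112,134), (3,180,5,3,117), (2,85,3,2,93), (24,72,2,28,73), (18,74,3,26,72), (48,135,2,60,133), (120,135,5,60,133), (52,128,3,48,131)]]

/-- characteristic function (bit `256 u + v`) of the set of all 1575 lines -/
def maskAll : Nat := 0x6009482182140096000000000000000000000000000000000000000000000000600984122841009600000000000000000000000000000000000000000000000000000000000000000000000000000000000000000000000000000000000000000690482128410096000000000000000000000000000000000000000000000000000000000000000000000000000000000000000000000000000000000000000000000000000000000000000000000000000000000000000000000000000000000690841282140096000000000000000000000000000000000000000000000000000000000000000000000000000000000000000000000000000000000000000006908412284100690000000000000000000000000000000000000000000000000690482182140069000000000000000000000000000000000000000000000000000000000000000000000000000000000000000000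000000000000000000000060098412821400690000000000000000000000000000000000000000000000000000000000000000000000000000000000000000000000000000000000000000000000000000000000000000000000000000000000000000000000000000000060094821284100690000000000000000000000000000000000000000000000002418c0038241003c0000000000000000000000000000000000000000000000004281c0032814003c000000000000000000000000000000000000000000000000000000000000000000000000000000000000000000000000000000000000000000000000000000000000000000000000000000000000000000000000000000000000000000000000000000000000000000000000000000000000000000000000000000000000000000000000000000000000000000000000000000000000000042810c308241003c00000000000000000000000000000000000000000000000024180c302814003c00000000000000000000000000000000000000000000000042810c30281400c300000000000000000000000000000000000000000000000024180c30824100c30000000000000000000000000000000000000000000000000000000000000000000000000000000000000000000000000000000000000000000000000000000000000000000000000000000000000000000000000000000000000000000000000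0000000000000000000000000000000000000000000000000000000000000000000000000000000000000000000000000000000000000002418c003281400c30000000000000000000000000000000000000000000000004281c003824100c300000000000000000000000000000000000000000000000042188421a005005a000000000000000000000000000000000000000000000000000000000000000000000000000000000000000000000000000000000000000024814812a005005a00000000000000000000000000000000000000000000000000000000000000000000000000000000000000000000000000000000000000000000000000000000000000000000000000000000000000000000000000000000248184210a50005a0000000000000000000000000000000000000000000000000000000000000000000000000000000000000000000000000000000000000000421848120a50005a000000000000000000000000000000000000000000000000248148120a5000a50000000000000000000000000000000000000000000000000000000000000000000000000000000000000000000000000000000000000000421884210a5000a5000000000000000000000000000000000000000000000000000000000000000000000000000000000000000000000000000000000000000000000000000000000000000000000000000000000000000000000000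0000000042184812a00500a5000000000000000000000000000000000000000000000000000000000000000000000000000000000000000000000000000000000000000024818421a00500a5000000000000000000000000000000000000000000000000000000000000000000000000000000000000000000000000000000000000000000000000000000000000000000000000000000000000000000000000000000000000000000000000000000000000000000000000000000000000000000000000000000000000000000000000000000000000000000000000000000000000000060900c030a0500f000000000000000000000000000000000000000000000000006090c03a05000f00000000000000000000000000000000000000000000000000609c0300a0500f00000000000000000000000000000000000000000000000006090c030a05000f000000000000000000000000000000000000000000000000000000000000000000000000000000000000000000000000000000000000000000000000000000000000000000000000000000000000000000000000000000000000000000000000000000000000000000000000000000000000000000000000000000000000000000000000000000000000000000000000000000000000000000609c030a050000f0000000000000000000000000000000000000000000000006090c0300a05000f000000000000000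00000000000000000000000000000000060900c03a050000f00000000000000000000000000000000000000000000000006090c030a05000f00000000000000000000000000000000000000004224900900000000881100660000000081810606000000000000000000000000000000000000000000000000000000000000000000000000000000000000000000000000000000000000000000000000000000000000000000000000000000001881900900000000224400660000000024240606000000000000000000000000188160060000000088110066000000002424090900000000000000000000000000000000000000000000000000000000000000000000000000000000000000000000000000000000000000000000000000000000000000000000000000000000422460060000000022440066000000008181090900000000000000000000000018816006000000002244009900000000818106060000000000000000000000000000000000000000000000000000000000000000000000000000000000000000000000000000000000000000000000000000000000000000000000000000000042246006000000008811009900000000242406060000000000000000000000004224900900000000224400990000000024240909000000000000000000000000000000000000000000000000000000000000000000000000000000000000000000000000000000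000000000000000000000000000000000000000000000000001881900900000000881100990000000081810909000000000000000000000000000000000000000000000000000000000000000000000000000000000000000000000000000000000000000000000000000000000000000000000000000000004884300300000000221100cc0000000021210c0c0000000000000000000000001221300300000000884400cc0000000084840c0c000000000000000000000000000000000000000000000000000000000000000000000000000000000000000000000000000000000000000000000000000000000000000000000000000000001221c00c00000000221100cc00000000848403030000000000000000000000004884c00c00000000884400cc0000000021210303000000000000000000000000000000000000000000000000000000000000000000000000000000000000000000000000000000000000000000000000000000000000000000000000000000001221c00c00000000884400330000000021210c0c0000000000000000000000004884c00c00000000221100330000000084840c0c0000000000000000000000000000000000000000000000000000000000000000000000000000000000000000000000000000000000000000000000000000000000000000000000000000000048843003000000008844003300000000848403030000000000000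00000000000122130030000000022110033000000002121030300000000000000000000000000000000000000000000000000000000000000000000000000000000000028820000500500004411000000aa0000414100000a0a00002222000000000000000000000000000000000000000000000000000000000000000000000000000014410000500500008822000000aa0000828200000a0a00001111000000000000000000000000000000000000000000000000000000000000000000000000000014410000a00a00004411000000aa000082820000050500002222000000000000000000000000000000000000000000000000000000000000000000000000000028820000a00a00008822000000aa000041410000050500001111000000000000000000000000000000000000000000000000000000000000000000000000000014410000a00a00008822000000550000414100000a0a00002222000000000000000000000000000000000000000000000000000000000000000000000000000028820000a00a00004411000000550000828200000a0a0000111100000000000000000000000000000000000000000000000000000000000000000000000000002882000050050000882200000055000082820000050500002222000000000000000000000000000000000000000000000000000000000000000000000000000014410000500500004411000000550000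4141000005050000111100000000006900000000000f0000003300550000000000c300a5000000990000000000000000000000a5000f0099003300000000006900c3000000000000000000550000000000c30000000f00990000005500000069000000a500000000003300000000006900c300a5000f000000000000000000000000000000000099003300550000000000c300a500000000003300550000006900000000000f0099000000000000006900c30000000000990033000000000000000000a5000f00000000005500000069000000a500000099000000550000000000c30000000f000000330000000000000000000000000000000000000000006900c300a5000f009900330055000000000c030a050000060900000000000f00000303050500000909000000000f0006090c0300000000000000000a05000f09090303000000000000000005050f00060900000a05000000000c030000000f09090000050500000000030300000f00000000000000000006090c030a05000f00000000000000000909030305050f001221000000003003221100000000003321210000000003031111000000003330000000001221300300000000221100330000000021210303000000001111333000001441000050050000441100000055000041410000050500001111000055540000000000000000000000000000000000000000000000000000000000000000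

/-- the 32 elements of `X_W` -/
def XW : List (List Nat) := [
  [1, 2, 4, 8, 16, 32, 64, 128],
  [1, 2, 4, 8, 18, 33, 64, 128],
  [1, 2, 4, 8, 20, 40, 65, 130],
  [1, 2, 4, 8, 22, 41, 65, 130],
  [1, 2, 4, 8, 24, 44, 66, 131],
  [1, 2, 4, 8, 26, 45, 66, 131],
  [1, 2, 4, 8, 28, 36, 67, 129],
  [1, 2, 4, 8, 30, 37, 67, 129],
  [1, 2, 5, 11, 208, 160, 64, 128],
  [1, 2, 5, 11, 210, 161, 64, 128],
  [1, 2, 5, 11, 213, 171, 65, 130],
  [1, 2, 5, 11, 215, 170, 65, 130],
  [1, 2, 5, 11, 217, 175, 66, 131],
  [1, 2, 5, 11, 219, 174, 66, 131],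
  [1, 2, 5, 11, 220, 164, 67, 129],
  [1, 2, 5, 11, 222, 165, 67, 129],
  [1, 2, 6, 9, 144, 96, 64, 128],
  [1, 2, 6, 9, 146, 97, 64, 128],
  [1, 2, 6, 9, 148, 104, 65, 130],
  [1, 2, 6, 9, 150, 105, 65, 130],
  [1, 2, 6, 9, 153, 111, 66, 131],
  [1, 2, 6, 9, 155, 110, 66, 131],
  [1, 2, 6, 9, 157, 103, 67, 129],
  [1, 2, 6, 9, 159, 102, 67, 129],
  [1, 2, 7, 10, 80, 224, 64, 128],
  [1, 2, 7, 10, 82, 225, 64, 128],
  [1, 2, 7, 10, 85, 235, 65, 130],
  [1, 2, 7, 10, 87, 234, 65, 130],
  [1, 2, 7, 10, 88, 236, 66, 131],
  [1, 2, 7, 10, 90, 237, 66, 131],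
  [1, 2, 7, 10, 93, 231, 67, 129],
  [1, 2, 7, 10, 95, 230, 67, 129]]

end Cfsg.Agent.LargeExtra.Nine.UTree
end

-- part: LargeExtra/Nine/UCode
section
/-!
# S1763 case I: the enumeration of the lines of type U on codes (helper71)

Everything is about natural numbers `< 256` (codes of vectors of `F₂^8`) and lists of eight codes (matrices).
Main theorem `enum_codes`: the set of U-lines consists of the 45 lines of `N₀ = U₄(2)`, or of these and one of the
three orbits of 270 lines.
-/

set_option autoImplicit false

namespace Cfsg.Agent.LargeExtra.Nine.UCode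

open UTree

/-- image of a code under a matrix (list of the images of the basis) -/
def apc : List Nat → Nat → Nat
  | [], _ => 0
  | a :: L, v => Nat.xor (cond (Nat.testBit v 0) a 0) (apc L (v / 2))

/-- product: first `M`, then `L` -/
def comp (L M : List Nat) : List Nat := M.map (apc L)

def qc (v : Nat) : Bool :=
  xor (xor (Nat.testBit v 0 && Nat.testBit v 4) (Nat.testBit v 1 && Nat.testBit v 5))
    (xor (Nat.testBit v 2 && Nat.testBit v 6) (Nat.testBit v 3 && Nat.testBit v 7))

def bc (u v : Nat) : Bool := xor (qc (Nat.xor u v)) (xor (qc u) (qc v))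

/-- the Siegel element of the line `⟨u, v⟩` -/
def sgc (u v : Nat) : List Nat :=
  [1, 2, 4, 8, 16, 32, 64, 128].map fun x =>
    Nat.xor x (Nat.xor (cond (bc x u) v 0) (cond (bc x v) u 0))

/-- canonical basis of a line -/
def cl (u v : Nat) : Nat × Nat :=
  let w := Nat.xor u v
  if u < v then (if v < w then (u, v) else if u < w then (u, w) else (w, u))
  else (if u < w then (v, u) else if v < w then (v, w) else (w, v))

/-- `(u, v)` is a canonical basis of a totally singular line -/
def isLine (u v : Nat) : Bool :=
  (decide (0 < u) && decide (u < v)) && (decide (v < Nat.xor u v) && (!qc u && (!qc v && !bc u v)))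

/-- check of one entry -/
def chk1 (A : List (Nat × Nat × Nat × Nat × Nat)) (e : Nat × Nat × Nat × Nat × Nat) : Bool :=
  let g := genN.getD e.2.2.1 []
  (decide (e.2.2.1 < genN.length) &&
    A.any (fun a => a.1 == e.2.2.2.1 && a.2.1 == e.2.2.2.2)) &&
  (cl (apc g e.1) (apc g e.2.1) == (e.2.2.2.1, e.2.2.2.2) &&
    cl (apc g e.2.2.2.1) (apc g e.2.2.2.2) == (e.1, e.2.1))

/-- check of a tree -/
def chk : List (List (Nat × Nat × Nat × Nat × Nat)) → Bool
  | [] => true
  | [_] => true
  | A :: B :: T => B.all (chk1 A) && chk (B :: T)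

theorem chk_T45 : chk T45 = true := by decide +kernel
theorem chk_TA4 : chk TA4 = true := by decide +kernel
theorem chk_TA8 : chk TA8 = true := by decide +kernel
theorem chk_TA12 : chk TA12 = true := by decide +kernel
theorem chk_TB : chk TB = true := by decide +kernel

/-- keys of all entries of a tree -/
def keys (T : List (List (Nat × Nat × Nat × Nat × Nat))) : List Nat :=
  T.flatten.map fun e => 256 * e.1 + e.2.1

def maskOf : List Nat → Nat
  | [] => 0
  | k :: L => Nat.lor (Nat.shiftLeft 1 k) (maskOf L)

theorem mask_eq : maskOf (keys T45 ++ keys TA4 ++ keys TA8 ++ keys TA12 ++ keys TB) = maskAll := by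
  decide +kernel

/-- the codes of the nonsingular vectors, as a mask -/
def qMask : Nat := 47759223636507730209801550344371119078934783318887441289834004656231277002752

theorem qc_eq : ∀ v < 256, qc v = Nat.testBit qMask v := by decide +kernel

/-- `isLine` with the mask -/
def isLn (u v : Nat) : Bool :=
  cond (Nat.blt 0 u) (cond (Nat.blt u v) (cond (Nat.blt v (Nat.xor u v)) (cond (Nat.testBit qMask u) false
    (cond (Nat.testBit qMask v) false (cond (Nat.testBit qMask (Nat.xor u v)) false true))) false) false) false

theorem isLn_of {u v : Nat} (hu : u < 256) (hv : v < 256) (h : isLine u v = true) : isLn u v = true := by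
  have hw : Nat.xor u v < 256 := Nat.xor_lt_two_pow (n := 8) hu hv
  simp only [isLine, bc, Bool.and_eq_true, decide_eq_true_eq, Bool.not_eq_true'] at h
  obtain ⟨⟨h1, h2⟩, h3, h4, h5, h6⟩ := h
  rw [h4, h5] at h6
  simp only [Bool.xor_false] at h6
  rw [qc_eq _ hu] at h4
  rw [qc_eq _ hv] at h5
  rw [qc_eq _ hw] at h6
  unfold isLn
  rw [h4, h5, h6, Nat.blt_eq.mpr h1, Nat.blt_eq.mpr h2, Nat.blt_eq.mpr h3]
  rfl

/-- the check for one `u` -/
noncomputable def ckv (u n : Nat) : Bool :=
  Nat.rec true (fun v ih => cond (cond (isLn u v) (Nat.testBit maskAll (256 * u + v)) true) ih false) n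

theorem ckv_spec {u : Nat} : ∀ {n : Nat}, ckv u n = true → ∀ v < n, isLn u v = true →
    Nat.testBit maskAll (256 * u + v) = true := by
  intro n
  induction n with
  | zero => intro _ v hv; exact absurd hv (Nat.not_lt_zero v)
  | succ n ih =>
    intro h v hv hl
    change cond (cond (isLn u n) (Nat.testBit maskAll (256 * u + n)) true) (ckv u n) false = true at h
    rcases Nat.lt_succ_iff_lt_or_eq.1 hv with h1 | rfl
    · cases h2 : cond (isLn u n) (Nat.testBit maskAll (256 * u + n)) true
      · rw [h2] at h; exact absurd h Bool.false_ne_true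
      · rw [h2] at h; exact ih h v h1 hl
    · rw [hl] at h
      cases h2 : Nat.testBit maskAll (256 * u + v)
      · rw [h2] at h; exact absurd h Bool.false_ne_true
      · rfl

/-- the check for `a ≤ u < a + n` -/
noncomputable def cku (a n : Nat) : Bool :=
  Nat.rec true (fun k ih => cond (ckv (a + k) 256) ih false) n

theorem cku_spec {a : Nat} : ∀ {n : Nat}, cku a n = true → ∀ k < n, ckv (a + k) 256 = true := by
  intro n
  induction n with
  | zero => intro _ v hv; exact absurd hv (Nat.not_lt_zero v)
  | succ n ih =>
    intro h v hv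
    change cond (ckv (a + n) 256) (cku a n) false = true at h
    rcases Nat.lt_succ_iff_lt_or_eq.1 hv with h1 | rfl
    · cases h2 : ckv (a + n) 256
      · rw [h2] at h; exact absurd h Bool.false_ne_true
      · rw [h2] at h; exact ih h v h1
    · cases h2 : ckv (a + v) 256
      · rw [h2] at h; exact absurd h Bool.false_ne_true
      · rfl

theorem cover_0 : cku 0 64 = true := by decide +kernel
theorem cover_1 : cku 64 64 = true := by decide +kernel
theorem cover_2 : cku 128 64 = true := by decide +kernel
theorem cover_3 : cku 192 64 = true := by decide +kernel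

theorem cover : ∀ u < 256, ∀ v < 256, isLine u v = true → Nat.testBit maskAll (256 * u + v) = true := by
  intro u hu v hv h
  refine ckv_spec ?_ v hv (isLn_of hu hv h)
  rcases (by omega : u < 64 ∨ (64 ≤ u ∧ u < 128) ∨ (128 ≤ u ∧ u < 192) ∨ 192 ≤ u) with h1 | h1 | h1 | h1
  · have h2 := cku_spec cover_0 u h1
    rwa [Nat.zero_add] at h2
  · have h2 := cku_spec cover_1 (u - 64) (by omega)
    rwa [show 64 + (u - 64) = u by omega] at h2
  · have h2 := cku_spec cover_2 (u - 128) (by omega)
    rwa [show 128 + (u - 128) = u by omega] at h2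
  · have h2 := cku_spec cover_3 (u - 192) (by omega)
    rwa [show 192 + (u - 192) = u by omega] at h2

end Cfsg.Agent.LargeExtra.Nine.UCode
end

-- part: LargeExtra/Nine/UEnum
section
/-!
# S1763 case I: `enum_codes` (helper71)
-/

set_option autoImplicit false

namespace Cfsg.Agent.LargeExtra.Nine.UEnum

open UTree UCode

/-- generators of `X_W` modulo `t_W` -/
def XG : List (List Nat) := genN.drop 2

/-- `L X_W L⁻¹ ⊆ X_W` on generators -/
def Tc (L : List Nat) : Bool :=
  XG.all fun x => XW.any fun y => comp L x == comp y L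

/-- the data: `M` = matrices of elements of `H`, `U` = pairs of codes spanning a U-line -/
structure USet (M : List Nat → Prop) (U : Nat → Nat → Prop) : Prop where
  symm : ∀ {u v}, U u v → U v u
  add : ∀ {u v}, U u v → U u (Nat.xor u v)
  line : ∀ {u v}, U u v → u < 256 ∧ v < 256 ∧ 0 < u ∧ 0 < v ∧ u ≠ v ∧ qc u = false ∧ qc v = false ∧
    bc u v = false
  gen : ∀ L ∈ genN, M L
  mul : ∀ {L K}, M L → M K → M (comp L K)
  act : ∀ {L u v}, M L → U u v → U (apc L u) (apc L v)
  sieg : ∀ {u v}, U u v → M (sgc u v)
  base : U 1 2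
  T : ∀ {L}, M L → cl (apc L 1) (apc L 2) = (1, 2) → Tc L = true

theorem xor_xor_self_left (u v : Nat) : Nat.xor u (Nat.xor u v) = v :=
  Nat.xor_xor_cancel_left u v

theorem xor_comm' (u v : Nat) : Nat.xor u v = Nat.xor v u := Nat.xor_comm u v

variable {M : List Nat → Prop} {U : Nat → Nat → Prop}

theorem USet.all6 (h : USet M U) {u v : Nat} (hu : U u v) :
    U v u ∧ U u (Nat.xor u v) ∧ U (Nat.xor u v) u ∧ U v (Nat.xor u v) ∧ U (Nat.xor u v) v := by
  have h1 := h.symm hu
  have h2 := h.add hu
  have h3 := h.add h1
  rw [xor_comm' v u] at h3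
  exact ⟨h1, h2, h.symm h2, h3, h.symm h3⟩

theorem USet.cl_of (h : USet M U) {u v : Nat} (hu : U u v) : U (cl u v).1 (cl u v).2 := by
  obtain ⟨h1, h2, h3, h4, h5⟩ := h.all6 hu
  unfold cl
  simp only
  split_ifs
  · exact hu
  · exact h2
  · exact h3
  · exact h1
  · exact h4
  · exact h5

theorem USet.of_cl (h : USet M U) {u v : Nat} (hu : U (cl u v).1 (cl u v).2) : U u v := by
  unfold cl at hu
  simp only at hu
  split_ifs at hu
  · exact hu
  · have := h.add hu
    rwa [show ((u, Nat.xor u v) : Nat × Nat).1 = u from rfl,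
      show ((u, Nat.xor u v) : Nat × Nat).2 = Nat.xor u v from rfl, xor_xor_self_left] at this
  · have := h.add (h.symm hu)
    rwa [show ((Nat.xor u v, u) : Nat × Nat).1 = Nat.xor u v from rfl,
      show ((Nat.xor u v, u) : Nat × Nat).2 = u from rfl, xor_xor_self_left] at this
  · exact h.symm hu
  · have := h.add hu
    rw [show ((v, Nat.xor u v) : Nat × Nat).1 = v from rfl,
      show ((v, Nat.xor u v) : Nat × Nat).2 = Nat.xor u v from rfl, xor_comm' u v,
      xor_xor_self_left] at this
    exact h.symm this
  · have := h.add (h.symm hu)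
    rw [show ((Nat.xor u v, v) : Nat × Nat).1 = Nat.xor u v from rfl,
      show ((Nat.xor u v, v) : Nat × Nat).2 = v from rfl, xor_comm' u v,
      xor_xor_self_left] at this
    exact h.symm this

theorem USet.chk1_iff (h : USet M U) {A : List (Nat × Nat × Nat × Nat × Nat)}
    {e : Nat × Nat × Nat × Nat × Nat} (hc : chk1 A e = true) {R : Prop}
    (hA : ∀ a ∈ A, (U a.1 a.2.1 ↔ R)) : (U e.1 e.2.1 ↔ R) := by
  unfold chk1 at hc
  simp only [Bool.and_eq_true, List.any_eq_true, beq_iff_eq, decide_eq_true_eq] at hc
  obtain ⟨⟨hlt, a, ha, ha1, ha2⟩, hc1, hc2⟩ := hc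
  have hg : M (genN.getD e.2.2.1 []) := by
    apply h.gen
    rw [List.getD_eq_getElem _ _ hlt]
    exact List.getElem_mem _
  have key : U e.2.2.2.1 e.2.2.2.2 ↔ R := by
    rw [← ha1, ← ha2]; exact hA a ha
  rw [← key]
  constructor
  · intro hu
    have := h.cl_of (h.act hg hu)
    rw [hc1] at this
    exact this
  · intro hu
    have := h.cl_of (h.act hg hu)
    rw [hc2] at this
    exact this

theorem USet.tree (h : USet M U) {R : Prop} :
    ∀ (T : List (List (Nat × Nat × Nat × Nat × Nat))) (A : List (Nat × Nat × Nat × Nat × Nat)),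
      chk (A :: T) = true → (∀ a ∈ A, (U a.1 a.2.1 ↔ R)) →
      ∀ e ∈ (A :: T).flatten, (U e.1 e.2.1 ↔ R) := by
  intro T
  induction T with
  | nil =>
    intro A _ hA e he
    simp only [List.flatten_cons, List.flatten_nil, List.append_nil] at he
    exact hA e he
  | cons B T ih =>
    intro A hc hA e he
    simp only [chk, Bool.and_eq_true, List.all_eq_true] at hc
    rw [List.flatten_cons, List.mem_append] at he
    rcases he with he | he
    · exact hA e he
    · exact ih B hc.2 (fun b hb => h.chk1_iff (hc.1 b hb) hA) e he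

theorem USet.T45 (h : USet M U) : ∀ e ∈ UTree.T45.flatten, (U e.1 e.2.1 ↔ True) :=
  h.tree (UTree.T45.drop 1) _ chk_T45 (by
    intro a ha
    rw [List.mem_singleton.1 ha]
    exact ⟨fun _ => trivial, fun _ => h.base⟩)

theorem USet.TA4 (h : USet M U) : ∀ e ∈ UTree.TA4.flatten, (U e.1 e.2.1 ↔ U 1 4) :=
  h.tree (UTree.TA4.drop 1) _ chk_TA4 (by
    intro a ha
    rw [List.mem_singleton.1 ha])

theorem USet.TA8 (h : USet M U) : ∀ e ∈ UTree.TA8.flatten, (U e.1 e.2.1 ↔ U 1 8) :=
  h.tree (UTree.TA8.drop 1) _ chk_TA8 (by
    intro a ha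
    rw [List.mem_singleton.1 ha])

theorem USet.TA12 (h : USet M U) : ∀ e ∈ UTree.TA12.flatten, (U e.1 e.2.1 ↔ U 1 12) :=
  h.tree (UTree.TA12.drop 1) _ chk_TA12 (by
    intro a ha
    rw [List.mem_singleton.1 ha])

theorem USet.TB (h : USet M U) : ∀ e ∈ UTree.TB.flatten, (U e.1 e.2.1 ↔ U 1 32) :=
  h.tree (UTree.TB.drop 1) _ chk_TB (by
    intro a ha
    rw [List.mem_singleton.1 ha])

theorem testBit_maskOf (k : Nat) : ∀ L : List Nat, Nat.testBit (maskOf L) k = true → k ∈ L := by
  intro L
  induction L with
  | nil => intro h; simp [maskOf] at h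
  | cons a L ih =>
    intro h
    have h2 : (1 <<< a ||| maskOf L).testBit k = true := h
    rw [Nat.testBit_or, Bool.or_eq_true, Nat.testBit_shiftLeft] at h2
    rcases h2 with h2 | h2
    · simp only [Bool.and_eq_true, decide_eq_true_eq] at h2
      have h3 : k - a = 0 := by
        by_contra hne
        have := Nat.testBit_one_eq_true_iff_self_eq_zero.1 h2.2
        exact hne this
      have : k = a := by omega
      rw [this]; exact List.mem_cons_self
    · exact List.mem_cons_of_mem _ (ih h2)

theorem all_lt : ∀ T ∈ [UTree.T45, UTree.TA4, UTree.TA8, UTree.TA12, UTree.TB],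
    (T.flatten.all fun e => decide (e.2.1 < 256)) = true := by
  decide +kernel

theorem mem_keys {T : List (List (Nat × Nat × Nat × Nat × Nat))}
    (hT : (T.flatten.all fun e => decide (e.2.1 < 256)) = true) {u v : Nat} (hv : v < 256)
    (h : 256 * u + v ∈ keys T) : ∃ e ∈ T.flatten, e.1 = u ∧ e.2.1 = v := by
  unfold keys at h
  rw [List.mem_map] at h
  obtain ⟨e, he, hk⟩ := h
  have := of_decide_eq_true (List.all_eq_true.1 hT e he)
  exact ⟨e, he, by omega, by omega⟩

theorem USet.isLine_cl (h : USet M U) {u v : Nat} (hu : U u v) :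
    (cl u v).1 < 256 ∧ (cl u v).2 < 256 ∧ isLine (cl u v).1 (cl u v).2 = true := by
  have h1 := h.line (h.cl_of hu)
  obtain ⟨a1, a2, a3, a4, a5, a6, a7, a8⟩ := h1
  refine ⟨a1, a2, ?_⟩
  obtain ⟨b1, b2, b3, b4, b5, -, -, -⟩ := h.line hu
  have c1 : (cl u v).1 < (cl u v).2 ∧ (cl u v).2 < Nat.xor (cl u v).1 (cl u v).2 := by
    have hw : Nat.xor u v ≠ u := by
      intro h'
      have : Nat.xor u (Nat.xor u v) = 0 := by rw [h']; exact Nat.xor_self u
      rw [xor_xor_self_left] at this
      omega
    have hw' : Nat.xor u v ≠ v := by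
      intro h'
      have : Nat.xor v (Nat.xor v u) = 0 := by rw [xor_comm' v u, h']; exact Nat.xor_self v
      rw [xor_xor_self_left] at this
      omega
    have e1 : Nat.xor u (Nat.xor u v) = v := xor_xor_self_left u v
    have e2 : Nat.xor v (Nat.xor u v) = u := by rw [xor_comm' u v]; exact xor_xor_self_left v u
    have e3 : Nat.xor (Nat.xor u v) u = v := by rw [xor_comm' _ u]; exact e1
    have e4 : Nat.xor (Nat.xor u v) v = u := by rw [xor_comm' _ v]; exact e2
    have e5 : Nat.xor v u = Nat.xor u v := xor_comm' v u
    unfold cl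
    simp only
    split_ifs <;> simp only [e1, e2, e3, e4, e5] <;> omega
  unfold isLine
  simp only [Bool.and_eq_true, decide_eq_true_eq, Bool.not_eq_true', a6, a7, a8, c1.1, c1.2, a3, and_self]

theorem not_beta (h : USet M U) : ¬ U 1 32 := by
  intro hu
  have h1 := h.T (h.sieg hu) (by decide +kernel)
  revert h1
  decide +kernel

/-- product of a word (first letter applied first) -/
def word (gs : List (List Nat)) : List Nat := gs.foldl (fun acc g => comp g acc) [1, 2, 4, 8, 16, 32, 64, 128]

theorem USet.word_mem (h : USet M U) (gs : List (List Nat)) (hg : ∀ g ∈ gs, M g) :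
    ∀ acc, M acc → M (gs.foldl (fun acc g => comp g acc) acc) := by
  induction gs with
  | nil => intro acc ha; exact ha
  | cons g gs ih =>
    intro acc ha
    exact ih (fun x hx => hg x (List.mem_cons_of_mem _ hx)) _ (h.mul (hg g List.mem_cons_self) ha)

theorem not_two (h : USet M U) {d d' : Nat} (hd : U 1 d) (hd' : U 1 d')
    (hl : let A := sgc 1 d; let B := sgc 1 d'; let t := genN.getD 1 []; let x := genN.getD 4 []
      let S := [A, t, x, t, B, t, x, t, A, t].foldl (fun acc g => comp g acc) t
      (cl (apc S 1) (apc S 2) == (1, 2) && !Tc S) = true) : False := by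
  simp only [Bool.and_eq_true, beq_iff_eq, Bool.not_eq_true'] at hl
  have ht : M (genN.getD 1 []) := h.gen _ (by decide)
  have hx : M (genN.getD 4 []) := h.gen _ (by decide)
  have hS := h.word_mem [sgc 1 d, genN.getD 1 [], genN.getD 4 [], genN.getD 1 [], sgc 1 d',
    genN.getD 1 [], genN.getD 4 [], genN.getD 1 [], sgc 1 d, genN.getD 1 []] (by
      intro g hg
      simp only [List.mem_cons, List.not_mem_nil, or_false] at hg
      rcases hg with rfl | rfl | rfl | rfl | rfl | rfl | rfl | rfl | rfl | rfl
      · exact h.sieg hd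
      · exact ht
      · exact hx
      · exact ht
      · exact h.sieg hd'
      · exact ht
      · exact hx
      · exact ht
      · exact h.sieg hd
      · exact ht) _ ht
  have := h.T hS hl.1
  rw [hl.2] at this
  exact Bool.false_ne_true this

theorem not48 (h : USet M U) (h4 : U 1 4) (h8 : U 1 8) : False :=
  not_two h h4 h8 (by decide +kernel)

theorem not412 (h : USet M U) (h4 : U 1 4) (h8 : U 1 12) : False :=
  not_two h h4 h8 (by decide +kernel)

theorem not812 (h : USet M U) (h4 : U 1 8) (h8 : U 1 12) : False :=
  not_two h h4 h8 (by decide +kernel)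

/-- the set of lines of a tree -/
def lines (T : List (List (Nat × Nat × Nat × Nat × Nat))) : List (Nat × Nat) :=
  T.flatten.map fun e => (e.1, e.2.1)

theorem mem_lines {T : List (List (Nat × Nat × Nat × Nat × Nat))} {p : Nat × Nat} :
    p ∈ lines T ↔ ∃ e ∈ T.flatten, e.1 = p.1 ∧ e.2.1 = p.2 := by
  unfold lines
  rw [List.mem_map]
  constructor
  · rintro ⟨e, he, rfl⟩; exact ⟨e, he, rfl, rfl⟩
  · rintro ⟨e, he, h1, h2⟩; exact ⟨e, he, Prod.ext h1 h2⟩

theorem USet.cases (h : USet M U) {u v : Nat} (hu : U u v) :
    cl u v ∈ lines UTree.T45 ∨ (cl u v ∈ lines UTree.TA4 ∧ U 1 4) ∨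
      (cl u v ∈ lines UTree.TA8 ∧ U 1 8) ∨ (cl u v ∈ lines UTree.TA12 ∧ U 1 12) := by
  obtain ⟨a1, a2, a3⟩ := h.isLine_cl hu
  have hb := cover _ a1 _ a2 a3
  rw [← mask_eq] at hb
  have hm := testBit_maskOf _ _ hb
  have hcl := h.cl_of hu
  simp only [List.mem_append] at hm
  rcases hm with (((hm | hm) | hm) | hm) | hm
  · obtain ⟨e, he, h1, h2⟩ := mem_keys (all_lt UTree.T45 (by simp)) a2 hm
    exact Or.inl (mem_lines.2 ⟨e, he, h1, h2⟩)
  · obtain ⟨e, he, h1, h2⟩ := mem_keys (all_lt UTree.TA4 (by simp)) a2 hm
    refine Or.inr (Or.inl ⟨mem_lines.2 ⟨e, he, h1, h2⟩, ?_⟩)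
    rw [← h.TA4 e he, h1, h2]; exact hcl
  · obtain ⟨e, he, h1, h2⟩ := mem_keys (all_lt UTree.TA8 (by simp)) a2 hm
    refine Or.inr (Or.inr (Or.inl ⟨mem_lines.2 ⟨e, he, h1, h2⟩, ?_⟩))
    rw [← h.TA8 e he, h1, h2]; exact hcl
  · obtain ⟨e, he, h1, h2⟩ := mem_keys (all_lt UTree.TA12 (by simp)) a2 hm
    refine Or.inr (Or.inr (Or.inr ⟨mem_lines.2 ⟨e, he, h1, h2⟩, ?_⟩))
    rw [← h.TA12 e he, h1, h2]; exact hcl
  · obtain ⟨e, he, h1, h2⟩ := mem_keys (all_lt UTree.TB (by simp)) a2 hm
    exact absurd ((h.TB e he).1 (by rw [h1, h2]; exact hcl)) (not_beta h)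

theorem USet.mem45 (h : USet M U) {u v : Nat} (hm : cl u v ∈ lines UTree.T45) : U u v := by
  obtain ⟨e, he, h1, h2⟩ := mem_lines.1 hm
  apply h.of_cl
  rw [← h1, ← h2]
  exact (h.T45 e he).2 trivial

theorem USet.memA4 (h : USet M U) (h4 : U 1 4) {u v : Nat} (hm : cl u v ∈ lines UTree.TA4) : U u v := by
  obtain ⟨e, he, h1, h2⟩ := mem_lines.1 hm
  apply h.of_cl
  rw [← h1, ← h2]
  exact (h.TA4 e he).2 h4

theorem USet.memA8 (h : USet M U) (h4 : U 1 8) {u v : Nat} (hm : cl u v ∈ lines UTree.TA8) : U u v := by
  obtain ⟨e, he, h1, h2⟩ := mem_lines.1 hm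
  apply h.of_cl
  rw [← h1, ← h2]
  exact (h.TA8 e he).2 h4

theorem USet.memA12 (h : USet M U) (h4 : U 1 12) {u v : Nat} (hm : cl u v ∈ lines UTree.TA12) :
    U u v := by
  obtain ⟨e, he, h1, h2⟩ := mem_lines.1 hm
  apply h.of_cl
  rw [← h1, ← h2]
  exact (h.TA12 e he).2 h4

/-- **The enumeration.**  Either the U-lines are the 45 lines of `N₀`, or they are these and exactly one of the three
orbits of 270 lines. -/
theorem enum_codes (h : USet M U) :
    (∀ u v, U u v ↔ cl u v ∈ lines UTree.T45) ∨
    (∀ u v, U u v ↔ cl u v ∈ lines UTree.T45 ∨ cl u v ∈ lines UTree.TA4) ∨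
    (∀ u v, U u v ↔ cl u v ∈ lines UTree.T45 ∨ cl u v ∈ lines UTree.TA8) ∨
    (∀ u v, U u v ↔ cl u v ∈ lines UTree.T45 ∨ cl u v ∈ lines UTree.TA12) := by
  by_cases h4 : U 1 4
  · right; left
    intro u v
    constructor
    · intro hu
      rcases h.cases hu with h1 | h1 | h1 | h1
      · exact Or.inl h1
      · exact Or.inr h1.1
      · exact (not48 h h4 h1.2).elim
      · exact (not412 h h4 h1.2).elim
    · rintro (h1 | h1)
      · exact h.mem45 h1
      · exact h.memA4 h4 h1
  · by_cases h8 : U 1 8
    · right; right; left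
      intro u v
      constructor
      · intro hu
        rcases h.cases hu with h1 | h1 | h1 | h1
        · exact Or.inl h1
        · exact (h4 h1.2).elim
        · exact Or.inr h1.1
        · exact (not812 h h8 h1.2).elim
      · rintro (h1 | h1)
        · exact h.mem45 h1
        · exact h.memA8 h8 h1
    · by_cases h12 : U 1 12
      · right; right; right
        intro u v
        constructor
        · intro hu
          rcases h.cases hu with h1 | h1 | h1 | h1
          · exact Or.inl h1
          · exact (h4 h1.2).elim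
          · exact (h8 h1.2).elim
          · exact Or.inr h1.1
        · rintro (h1 | h1)
          · exact h.mem45 h1
          · exact h.memA12 h12 h1
      · left
        intro u v
        constructor
        · intro hu
          rcases h.cases hu with h1 | h1 | h1 | h1
          · exact h1
          · exact (h4 h1.2).elim
          · exact (h8 h1.2).elim
          · exact (h12 h1.2).elim
        · exact fun h1 => h.mem45 h1

end Cfsg.Agent.LargeExtra.Nine.UEnum
end
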