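import Cfsg.Agent.ClassicalGeometry.SympBasic
import Cfsg.Agent.S0765
import Cfsg.Agent.LargeExtra.Nine.UEnum
import Cfsg.Agent.LargeExtra.KillNine.Codes
import Cfsg.Agent.LargeExtra.Nine.UCoord
import Cfsg.Agent.LargeExtra.SixMinus
import Cfsg.Agent.PLocal.PConstrained
import Cfsg.Agent.SignalizersComponents.FStarPCore
import Cfsg.Prelude.Def_CaseTheorems
import Cfsg.Prelude.Def_Spor_Conway
set_option linter.all false

-- part: LargeExtra/Nine/SpPerm
section
/-!
# Permutation groups preserving the symplectic form over `F₂`

`nonempty_equiv`: a group `H` acting faithfully on `F₂^(2m)` by permutations which preserve the standard symplectic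
form and inducing all transvections is `Sp(2m, 2)`.
-/

set_option autoImplicit false
open Cfsg
open scoped Matrix

namespace Cfsg.Agent.LargeExtra.Nine.SpPerm

open Cfsg.Agent.ClassicalGeometry.SympBasic

variable {m : ℕ}

/-- A permutation preserving the form is additive. -/
theorem map_add_of_preserves (s : Equiv.Perm (Fin m ⊕ Fin m → ZMod 2))
    (hs : ∀ x y, sympForm m (ZMod 2) (s x) (s y) = sympForm m (ZMod 2) x y)
    (x y : Fin m ⊕ Fin m → ZMod 2) : s (x + y) = s x + s y := by
  apply eq_of_forall_sympForm_left
  intro w
  obtain ⟨v, rfl⟩ := s.surjective w
  rw [hs, sympForm_add_right, sympForm_add_right, hs, hs]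

/-- the linear map of a permutation preserving the form -/
def linOf (s : Equiv.Perm (Fin m ⊕ Fin m → ZMod 2))
    (hs : ∀ x y, sympForm m (ZMod 2) (s x) (s y) = sympForm m (ZMod 2) x y) :
    (Fin m ⊕ Fin m → ZMod 2) →ₗ[ZMod 2] (Fin m ⊕ Fin m → ZMod 2) :=
  AddMonoidHom.toZModLinearMap 2 (AddMonoidHom.mk' s (map_add_of_preserves s hs))

@[simp] theorem linOf_apply (s : Equiv.Perm (Fin m ⊕ Fin m → ZMod 2))
    (hs : ∀ x y, sympForm m (ZMod 2) (s x) (s y) = sympForm m (ZMod 2) x y)
    (x : Fin m ⊕ Fin m → ZMod 2) : linOf s hs x = s x := rfl

/-- the symplectic matrix of a permutation preserving the form -/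
noncomputable def spOf (s : Equiv.Perm (Fin m ⊕ Fin m → ZMod 2))
    (hs : ∀ x y, sympForm m (ZMod 2) (s x) (s y) = sympForm m (ZMod 2) x y) :
    Matrix.symplecticGroup (Fin m) (ZMod 2) :=
  ⟨LinearMap.toMatrix' (linOf s hs), by
    rw [mem_symplecticGroup_iff]
    intro u v
    rw [LinearMap.toMatrix'_mulVec, LinearMap.toMatrix'_mulVec, linOf_apply, linOf_apply, hs]⟩

theorem spOf_mulVec (s : Equiv.Perm (Fin m ⊕ Fin m → ZMod 2))
    (hs : ∀ x y, sympForm m (ZMod 2) (s x) (s y) = sympForm m (ZMod 2) x y)
    (x : Fin m ⊕ Fin m → ZMod 2) :
    (spOf s hs : Matrix (Fin m ⊕ Fin m) (Fin m ⊕ Fin m) (ZMod 2)) *ᵥ x = s x := by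
  show LinearMap.toMatrix' (linOf s hs) *ᵥ x = s x
  rw [LinearMap.toMatrix'_mulVec, linOf_apply]

/-- two symplectic matrices with the same action are equal -/
theorem sp_ext {A B : Matrix.symplecticGroup (Fin m) (ZMod 2)}
    (h : ∀ x, (A : Matrix (Fin m ⊕ Fin m) (Fin m ⊕ Fin m) (ZMod 2)) *ᵥ x =
      (B : Matrix (Fin m ⊕ Fin m) (Fin m ⊕ Fin m) (ZMod 2)) *ᵥ x) : A = B := by
  apply Subtype.ext
  rw [← Matrix.mulVec_injective.eq_iff]
  funext x
  exact h x

/-- **Recognition of `Sp(2m, 2)`** as a permutation group. -/
theorem nonempty_equiv {H : Type*} [Group H] (Φ : H →* Equiv.Perm (Fin m ⊕ Fin m → ZMod 2))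
    (hinj : Function.Injective Φ)
    (hB : ∀ h x y, sympForm m (ZMod 2) (Φ h x) (Φ h y) = sympForm m (ZMod 2) x y)
    (hT : ∀ w, ∃ h, ∀ x, Φ h x = x + sympForm m (ZMod 2) x w • w) :
    Nonempty (H ≃* Matrix.symplecticGroup (Fin m) (ZMod 2)) := by
  classical
  let Ψ : H →* Matrix.symplecticGroup (Fin m) (ZMod 2) :=
    { toFun := fun h => spOf (Φ h) (hB h)
      map_one' := sp_ext fun x => by
        rw [spOf_mulVec, map_one]
        show x = (1 : Matrix (Fin m ⊕ Fin m) (Fin m ⊕ Fin m) (ZMod 2)) *ᵥ x
        rw [Matrix.one_mulVec]
      map_mul' := fun a b => sp_ext fun x => by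
        rw [spOf_mulVec, coe_mul_mulVec, spOf_mulVec, spOf_mulVec, map_mul]
        rfl }
  have hΨ : ∀ h x, (Ψ h : Matrix (Fin m ⊕ Fin m) (Fin m ⊕ Fin m) (ZMod 2)) *ᵥ x = Φ h x :=
    fun h x => spOf_mulVec _ _ x
  have hinj' : Function.Injective Ψ := by
    intro a b hab
    apply hinj
    ext1 x
    rw [← hΨ, ← hΨ, hab]
  have hsurj : Function.Surjective Ψ := by
    rw [← MonoidHom.range_eq_top, ← top_le_iff, ← Cfsg.Agent.S0765.result (F := ZMod 2) m,
      Subgroup.closure_le]
    rintro A ⟨w, c, hA⟩
    by_cases hc : c = 0
    · have : A = 1 := by
        apply Subtype.ext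
        rw [hA, hc, sympTransvection_zero]
        rfl
      rw [this]
      exact one_mem _
    · have hc1 : c = 1 := (by decide : ∀ c : ZMod 2, c ≠ 0 → c = 1) c hc
      subst hc1
      obtain ⟨h, hh⟩ := hT w
      refine ⟨h, sp_ext fun x => ?_⟩
      rw [hΨ, hh, hA, sympTransvection_mulVec, one_mul]
  exact ⟨MulEquiv.ofBijective Ψ ⟨hinj', hsurj⟩⟩

section Sets

variable {V : Type*} [AddCommGroup V] [Module (ZMod 2) V]
  (H : Subgroup (V ≃ₗ[ZMod 2] V)) (S : (Fin m ⊕ Fin m → ZMod 2) → Set V)

/-- `f` maps `S c` onto `S d` -/
def Rel (f : V ≃ₗ[ZMod 2] V) (c d : Fin m ⊕ Fin m → ZMod 2) : Prop := ∀ v, v ∈ S c ↔ f v ∈ S d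

variable {S}

theorem Rel.unique (hinj : Function.Injective S) {f : V ≃ₗ[ZMod 2] V} {c d d' : Fin m ⊕ Fin m → ZMod 2}
    (h : Rel S f c d) (h' : Rel S f c d') : d = d' := by
  apply hinj
  ext w
  obtain ⟨v, rfl⟩ := f.surjective w
  rw [← h v, ← h' v]

theorem Rel.one (c : Fin m ⊕ Fin m → ZMod 2) : Rel S 1 c c := fun _ => Iff.rfl

theorem Rel.mul {f g : V ≃ₗ[ZMod 2] V} {c d e : Fin m ⊕ Fin m → ZMod 2}
    (hf : Rel S f d e) (hg : Rel S g c d) : Rel S (f * g) c e := by
  intro v
  rw [hg v, hf (g v)]
  rfl

/-- the data: `H` permutes the sets `S c`, whose intersections recover the symplectic form -/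
structure Fam (H : Subgroup (V ≃ₗ[ZMod 2] V)) (S : (Fin m ⊕ Fin m → ZMod 2) → Set V) : Prop where
  zero : S 0 = Set.univ
  ne_univ : ∀ c, c ≠ 0 → S c ≠ Set.univ
  anti : ∀ c d, c ≠ 0 → d ≠ 0 → S c ⊆ S d → c = d
  map : ∀ f ∈ H, ∀ c, c ≠ 0 → ∃ d, d ≠ 0 ∧ ∀ v ∈ S c, f v ∈ S d
  form : ∀ c d, (∃ v, v ≠ 0 ∧ v ∈ S c ∧ v ∈ S d) ↔ sympForm m (ZMod 2) c d = 0
  fix : ∀ f ∈ H, (∀ c, ∀ v ∈ S c, f v ∈ S c) → f = 1
  trans : ∀ w, w ≠ 0 → ∃ f ∈ H, ∀ c, c ≠ 0 → ∀ v ∈ S c, f v ∈ S (c + sympForm m (ZMod 2) c w • w)

variable {H}

theorem Fam.inj (F : Fam H S) : Function.Injective S := by
  intro c d hcd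
  by_cases hc : c = 0
  · by_cases hd : d = 0
    · rw [hc, hd]
    · exact absurd (by rw [← hcd, hc, F.zero]) (F.ne_univ d hd)
  · by_cases hd : d = 0
    · exact absurd (by rw [hcd, hd, F.zero]) (F.ne_univ c hc)
    · exact F.anti c d hc hd hcd.subset

theorem Fam.rel_of_sub (F : Fam H S) {f : V ≃ₗ[ZMod 2] V} (hf : f ∈ H) {c d : Fin m ⊕ Fin m → ZMod 2}
    (hc : c ≠ 0) (hd : d ≠ 0) (h : ∀ v ∈ S c, f v ∈ S d) : Rel S f c d := by
  obtain ⟨e, he, h1⟩ := F.map f⁻¹ (H.inv_mem hf) d hd
  have h2 : ∀ v, f⁻¹ (f v) = v := fun v => f.symm_apply_apply v
  have hce : c = e := F.anti c e hc he fun v hv => by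
    have := h1 _ (h v hv)
    rwa [h2] at this
  intro v
  refine ⟨h v, fun hv => ?_⟩
  have := h1 _ hv
  rwa [h2, ← hce] at this

theorem Fam.exists_rel (F : Fam H S) (f : H) (c : Fin m ⊕ Fin m → ZMod 2) :
    ∃ d, Rel S (f : V ≃ₗ[ZMod 2] V) c d := by
  by_cases hc : c = 0
  · refine ⟨0, fun v => ?_⟩
    rw [hc, F.zero]
    exact iff_of_true (Set.mem_univ _) (Set.mem_univ _)
  · obtain ⟨d, hd, h⟩ := F.map f f.2 c hc
    exact ⟨d, F.rel_of_sub f.2 hc hd h⟩

/-- the action on the index set -/
noncomputable def Fam.act (F : Fam H S) (f : H) (c : Fin m ⊕ Fin m → ZMod 2) : Fin m ⊕ Fin m → ZMod 2 :=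
  (F.exists_rel f c).choose

theorem Fam.act_spec (F : Fam H S) (f : H) (c : Fin m ⊕ Fin m → ZMod 2) :
    Rel S (f : V ≃ₗ[ZMod 2] V) c (F.act f c) := (F.exists_rel f c).choose_spec

theorem Fam.act_eq (F : Fam H S) {f : H} {c d : Fin m ⊕ Fin m → ZMod 2}
    (h : Rel S (f : V ≃ₗ[ZMod 2] V) c d) : F.act f c = d := (F.act_spec f c).unique F.inj h

theorem Fam.act_one (F : Fam H S) (c : Fin m ⊕ Fin m → ZMod 2) : F.act 1 c = c :=
  F.act_eq (Rel.one c)

theorem Fam.act_mul (F : Fam H S) (f g : H) (c : Fin m ⊕ Fin m → ZMod 2) :
    F.act (f * g) c = F.act f (F.act g c) :=
  F.act_eq ((F.act_spec f (F.act g c)).mul (F.act_spec g c))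

/-- the permutation representation -/
noncomputable def Fam.perm (F : Fam H S) : H →* Equiv.Perm (Fin m ⊕ Fin m → ZMod 2) where
  toFun f :=
    { toFun := F.act f
      invFun := F.act f⁻¹
      left_inv := fun c => by rw [← F.act_mul, inv_mul_cancel, F.act_one]
      right_inv := fun c => by rw [← F.act_mul, mul_inv_cancel, F.act_one] }
  map_one' := Equiv.ext fun c => F.act_one c
  map_mul' f g := Equiv.ext fun c => F.act_mul f g c

/-- **Recognition of `Sp(2m, 2)`** as a linear group permuting a family of subsets. -/
theorem Fam.nonempty_equiv (F : Fam H S) :
    Nonempty (H ≃* Matrix.symplecticGroup (Fin m) (ZMod 2)) := by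
  apply SpPerm.nonempty_equiv F.perm
  · rw [injective_iff_map_eq_one]
    intro f hf
    apply Subtype.ext
    apply F.fix f f.2
    intro c v hv
    have h1 := F.act_spec f c
    have h2 : F.act f c = c := congrArg (fun t : Equiv.Perm (Fin m ⊕ Fin m → ZMod 2) => t c) hf
    rw [h2] at h1
    exact (h1 v).1 hv
  · intro f x y
    have key : sympForm m (ZMod 2) (F.act f x) (F.act f y) = 0 ↔ sympForm m (ZMod 2) x y = 0 := by
      rw [← F.form, ← F.form]
      constructor
      · rintro ⟨w, hw, h1, h2⟩
        obtain ⟨v, rfl⟩ := (f : V ≃ₗ[ZMod 2] V).surjective w
        refine ⟨v, ?_, (F.act_spec f x v).2 h1, (F.act_spec f y v).2 h2⟩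
        rintro rfl
        exact hw (map_zero _)
      · rintro ⟨v, hv, h1, h2⟩
        exact ⟨(f : V ≃ₗ[ZMod 2] V) v, (LinearEquiv.map_ne_zero_iff _).2 hv,
          (F.act_spec f x v).1 h1, (F.act_spec f y v).1 h2⟩
    have h2 : ∀ a b : ZMod 2, (a = 0 ↔ b = 0) → a = b := by decide
    exact h2 _ _ key
  · intro w
    by_cases hw : w = 0
    · refine ⟨1, fun x => ?_⟩
      rw [hw, smul_zero, add_zero, map_one]
      rfl
    · obtain ⟨f, hf, h⟩ := F.trans w hw
      refine ⟨⟨f, hf⟩, fun x => ?_⟩
      show F.act ⟨f, hf⟩ x = _
      apply F.act_eq
      by_cases hx : x = 0
      · rw [hx, sympForm_zero_left, zero_smul, add_zero]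
        intro v
        rw [F.zero]
        exact iff_of_true (Set.mem_univ _) (Set.mem_univ _)
      · refine F.rel_of_sub hf hx ?_ (h x hx)
        intro h0
        by_cases hB : sympForm m (ZMod 2) x w = 0
        · rw [hB, zero_smul, add_zero] at h0
          exact hx h0
        · have hB1 : sympForm m (ZMod 2) x w = 1 :=
            (by decide : ∀ c : ZMod 2, c ≠ 0 → c = 1) _ hB
          rw [hB1, one_smul] at h0
          have h3 : x = w := by
            rw [eq_neg_of_add_eq_zero_left h0]
            exact ZModModule.neg_eq_self w
          apply hB
          rw [h3, sympForm_self]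

end Sets

end Cfsg.Agent.LargeExtra.Nine.SpPerm
end

-- part: LargeExtra/Nine/SpData
section
/-!
# S1763, `Sp(6, 2)`: the near hexagon on the 315 lines, its 63 quads and the symplectic transvections: data and
kernel checks (generated; data of helper71)

Codes `< 256` are vectors of `F₂^8`; codes `c < 64` are vectors of `F₂^6` (bits `0..2`: `e_i`, bits `3..5`: `f_i`).
-/

set_option autoImplicit false

namespace Cfsg.Agent.LargeExtra.Nine.SpData

open UTree UCode

/-- mask of the keys `256 u + v` of the 315 lines (canonical bases) -/
def UM : Nat := 0x200808200000000000000000000000000000000000000000000000000000000040010410000000000000000000000000000000000000000000000000000000000000000000000000000000000000000000000000000000000000000000000000028008200000000000000000000000000000000000000000000000000000000000000000000000000000000000000000000000000000000000000000000000000000000000000000000000000000000000000000000000000000000000000000041004100000000000000000000000000000000000000000000000000000000000000000000000000000000000000000000000000000000000000000000000000280800200000000000000000000000000000000000000000000000000000000041040010000000000000000000000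0000000000000000000000000000000000000000000000000000000000000000000000000000000000000000000000000020088002000000000000000000000000000000000000000000000000000000000000000000000000000000000000000000000000000000000000000000000000000000000000000000000000000000000000000000000000000000000000000040014001000000000000000000000000000000000000000000000000000000000000000082000028000000000000000000000000000000000000000000000000000000002800002800000000000000000000000000000000000000000000000000000000000000000000000000000000000000000000000000000000000000000000000000000000000000000000000000000000000000000000000000000000000000000000000000000000000000000000000000000000000000000000000000000000000000000000000000000000000000000000000000000000000000000000000000410014000000000000000000000000000000000000000000000000000000000014001400000000000000000000000000000000000000000000000000000000280000820000000000000000000000000000000000000000000000000000000082000082000000000000000000000000000000000000000000000000000000000000000000000000000000000000000000000000000000000000000000000000000000000000000000000000000000000000000000000000000000000000000000000000000000000000000000000000000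0000000000000000000000000000000000000000000000000000000000000000000000000000000000000000000000014004100000000000000000000000000000000000000000000000000000000004100410000000000000000000000000000000000000000000000000208802000000000000000000000000000000000000000000000000000000000000000000000000000000000000000000000000000000000000000000000000004014010000000000000000000000000000000000000000000000000000000000000000000000000000000000000000000000000000000000000000000000000000000000000000000000000000000000000000000000000000000000000000020808020000000000000000000000000000000000000000000000000000000000000000000000000000000000000000000000000000000000000000000000000401040100000000000000000000000000000000000000000000000000000000020800802000000000000000000000000000000000000000000000000000000000000000000000000000000000000000000000000000000000000000000000000401004010000000000000000000000000000000000000000000000000000000000000000000000000000000000000000000000000000000000000000000000000000000000000000000000000000000000000000000000000000000000000000020808020000000000000000000000000000000000000000000000000000000000000000000000000000000000000000000000000000000000000000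0000000004010401000000000000000000000000000000000000000000000000000000000000000000000000000000000000000000000000000000000000000000000000000000000000000000000000000000000000000000000000000000000000000000000000000000000000000000000000000000000000000000000000000000000000000000000000000000000000000000000000000000000000000000000000000000000a0000a000000000000000000000000000000000000000000000000000000000a00000a000000000000000000000000000000000000000000000000000000000000500500000000000000000000000000000000000000000000000000000000000500050000000000000000000000000000000000000000000000000000000000000000000000000000000000000000000000000000000000000000000000000000000000000000000000000000000000000000000000000000000000000000000000000000000000000000000000000000000000000000000000000000000000000000000000000000000000000000000000000000000000000000000000000a000000a000000000000000000000000000000000000000000000000000000000a00000a00000000000000000000000000000000000000000000000000000000005000050000000000000000000000000000000000000000000000000000000000050005000000000000000000000000000000000000000002208008000000000000000000000000000000000000000000000000000000000000000000000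0000000000000000000000000000000000000000000000000000000000000000000000000000000000000000000000000000000000000000000088080080000000000000000000000000000000000000000000000000000000010014004000000000000000000000000000000000000000000000000000000000000000000000000000000000000000000000000000000000000000000000000000000000000000000000000000000000000000000000000000000000000000040044004000000000000000000000000000000000000000000000000000000000880200200000000000000000000000000000000000000000000000000000000000000000000000000000000000000000000000000000000000000000000000000000000000000000000000000000000000000000000000000000000000000000220200200000000000000000000000000000000000000000000000000000000400410010000000000000000000000000000000000000000000000000000000000000000000000000000000000000000000000000000000000000000000000000000000000000000000000000000000000000000000000000000000000000000100110010000000000000000000000000000000000000000000000000000000000000000000000000000000000000000000000000000000000000000000000000000000000000000000000000000000000000000000000000000000000000000000000000000000022000088000000000000000000000000000000000000000000000000000000008800008800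0000000000000000000000000000000000000000000000000000000000000000000000000000000000000000000000000000000000000000000000000000000000000000000000000000000000000000000000000000000000000000110044000000000000000000000000000000000000000000000000000000000044004400000000000000000000000000000000000000000000000000000000000000000000000000000000000000000000000000000000000000000000000000000000000000000000000000000000000000000000000000000000000000008800002200000000000000000000000000000000000000000000000000000000220000220000000000000000000000000000000000000000000000000000000000000000000000000000000000000000000000000000000000000000000000000000000000000000000000000000000000000000000000000000000000000000004400110000000000000000000000000000000000000000000000000000000000110011000000000000000000000000000000000000000000000000000000000000000000000000000000000000000000000000000000000000000000000000000000000000404000000808000020200000000000000000000000000000000000000000000000000000000000000000000000000000000000000000000000000000000000008080000008080000101000000000000000000000000000000000000000000000000000000000000000000000000000000000000000000000000000000000000080800000040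40000202000000000000000000000000000000000000000000000000000000000000000000000000000000000000000000000000000000000000040400000040400001010000000000000000000000000000000000000000000000000000000000000000000000000000000000000000000000000000000000000010100000202000002020000000000000000000000000000000000000000000000000000000000000000000000000000000000000000000000000000000000000202000002020000010100000000000000000000000000000000000000000000000000000000000000000000000000000000000000000000000000000000000002020000010100000202000000000000000000000000000000000000000000000000000000000000000000000000000000000000000000000000000000000000010100000101000001010000000000690000000000000000000000000000000000000000000000000000000000000000000000000000000000000000000000690000000000000000000000000000000000000000000000990000000000000000000000000000000000000000000000000000000000000000000000000000000000000000000000990000000000000000000000a50000000000000000000000000000000000000000000000000000000000000000000000000000000000000000000000a5000000000000000000000000000000000000000000000055000000000000000000000000000000000000000000000000000000000000000000000000000000000000000000000055000000000c0300000000000000000000000000000000000000000000000000000c000000000000000000000000000000000000000303000000000000000000000300000000000000000000000c030000000000000000000000000000000000000c0000000000000000000000000000000000000000000000000000000303000003000000000000003003000000000000000000000000000000000000000000003000000000000000000000000000000000000000000000000303000000000000030000000000000000000000000000000055000000000000000000000000000000540000000000000000000000000000000000000000000000000000000000000000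

/-- mask of the pairs `256 p + q` of points of a common line -/
def RM : Nat := 0x1000000001008000004200240000000000240042000001008000000008000000000000000000000000000000000000000000000000000000000000000000000000000000000000000000000000000000000000000000000000000000000000008000000001008000008100810000000000180018000008001000000008000000000000000000000000000000000000000000000000000000000000000000000200000000020040000042020040000000001808001000001800000000080000040000000002004000008108001000000000240200400000810000000008000000000000000000000000000000000000000000000000000000000000000000000000000000000000000000000000000000000000000000000000000000000000200000000004002000040020240000000008001018000000180000000008000040000000000400200008001081000000000400204200000081000000000800000000000000000000000000000000000000000000000000000000000000000001000000000008001000040022004000000004002200400001008000000008000000000000000000000000000000000000000000000000000000000000000000000000000000000000000000000000000000000000000000000000000000000008000000000008001000080018001000000008001800100008001000000008000000000000000000000000000000000000000000000000000000000000000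0000000000000000000000000000000000000000000000000000000000000000000000000400420000000081000000000018000042002400000000180000000000800000080018000000001800000000001800008100810000000081000000000080000010000081000042000000000000240000420000240000180000000000008000002000002400002400000000000024000081000081000081000000000000800000000000000000000000000000000000000000000000000000000000000000000000000000000000000000000000000000000000000000000000000000000000000001180000002400000000000042000000422400000018000000000000800000000242000000420000000000004200000081810000008100000000000080000000000000000000000000000000000000000000000000000000000000000000000000000000000000000000000000000000000000000000000000000000000000000000000000000000000000000000000000000000000000000000000000000000000000000000000000000000000000000000000000000000000000000000000040002400000018000000000081000000420024000000180000000000800000008000810000008100000000008100000081008100000081000000000080000000000000000000000000000000000000000000000000000000000000000000002040002000000000402020400000080100000000010801080000000008000000000000000000000000000000000000000000000000000000000000000000000010800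0800000000080108010000001080000000001080801000000000800000010800001000000004020020400004020000000000204108000000000080000000000000000000000000000000000000000000000000000000000000000000000204000040000000080100801000020400000000002048010000000000800000000000000000000000000000000000000000000000000000000000000000000000801100000000000040220400000204000000000040210800000000008000000000000000000000000000000000000000000000000000000000000000000000004024000000000000801801000004020000000000402801000000000080000000000000000000000000000000000000000000000000000000000000000000000000000000000000000000000000000000000000000000000000000000000000004020200000000000402020400000108000000000801010800000000080000000000000000000000000000000000000000000000000000000000000000000000080108000000000008010801000008010000000008010801000000000800000900000000100006000000000000600060000000000600900000000000000800600000000020006000000000000060000900000000090009000000000000080600000000004000000900000000009060000000000006000090000000000008900000000000800000900000000000900900000000000900000900000000000800000000000000000000000000000000000000000000000000000000000000000000000000000000000000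0000000000000000000000000000000000000000000000000000000000000000000000000000000000000000000000000000000000000000000000000000000000000000000000000000000000000000000000000000000000000000000000000000000000000000000000000000000000000000000000000000000000000000000000000000000000000000000000000000000000000000000000000000000000000000000000000000000000000000000000000000000000000000000000000000000000000000000000000000000000000000009000000000000001600000000000000660000000000000069000000000000008060000000000000206000000000000060900000000000009090000000000000800600000000000040090000000000009006000000000000600900000000000080009000000000008000900000000000900090000000000090009000000000008000000000000000000000000000000000000000000000000000000000000000000000840000040080008000008400000200100000120000000000120000020000000048000004008000100000210000040080000048000000000021000002000000000000000000000000000000000000000000000000000000000000000000000000000000000000000000000000000000000000000000000000000000000000000048000008004008000008004000001200000200100000000012000002000000008400000800400100000200100000840000080040000000002100000200000000000000000000000000000000000000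0000000000000000000000000000000002001000010020400000008400000084000000480000000001002000020000000000000000000000000000000000000000000000000000000000000000000000000000000000000000000000000000000000000000000000000000000000000001002000010020200000002100000012000000120000000002001000020000000100200002001400000008004000040080000800400000000100200002000000000000000000000000000000000000000000000000000000000000000000000000000000000000000000000000000000000000000000000000000000000000000200100002001200000002001000020010000200100000000200100002000002100001200000000000400000000480048000084000000000012000000002000480000480000000000080000000048002100002100000000002100000000200000000000000000000000000000000000000000000000000000000000000000000000000000000000000000000000000000000000000000000000000000000012000000002100000000400000000084480000000084000000001200000000208400000000840000000080000000008421000000002100000000210000000020000000000000000000000000000000000000000000000000000000000000000000000000000000000000000000000000000000000000000000000000000000000000000000000000000000000000000000000000000000000000000000000000000000000000000000000000000000000000000000000000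0000000000000000840000004800000000000001000000124800000084000000000000120000002012000000120000000000000200000012210000002100000000000021000000200000000000000000000000000000000000000000000000000000000000000000000000000000000000000000000000000000000000000000000000000000000000480000008400000000001000000021004800000084000000000012000000200021000000210000000000200000002100210000002100000000002100000020020100001020000004080000004000000000804000000408000010200000020000000000000000000000000000000000000000000000000000000000000000000408000040800000020100000010000000004080000004080000201000000200000000000000000000000000000000000000000000000000000000000000000010200000020100004080000000040000000040800000080400001020000002000000000000000000000000000000000000000000000000000000000000000000804000000804000020100000000100000000804000000804000020100000020000000000000000000000000000000000000000000000000000000000000000000000000000000000000000000000000000000000000000000000000000000000804000004080000040800000800000000000020100000102000001020000020000000000000000000000000000000000000000000000000000000000000000001020000010200000201000002000000000000102000001020000020100000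200000000000000000000000000000000000000000000000000000000000000000004080000080400000408000008000000000001020000020100000102000002000000000000000000000000000000000000000000000000000000000000000000020100000201000002010000020000000000020100000201000002010000020000000000000000000000000000000000000000000000000000000000000000000000000000000000000000000000000000000000000000000000000000000000000000000000000000000000000000000000000000000000000000000000000000000000000000000000000000000000000000000000000000000000000000000000000000000000000000000000000000000000000000000000000000000000000000000000000000000000000000000000000000000000000000000000000000000000000000000000000000000000000000000000000000000000000000000000000000000000000000000000000000000000000000000000000000000000000000030000300000000c0000000040000000c000000c000000300000000002000000c00000c0000000c000000000800000000300000300000003000000000200000c000000c00000000003000000100000c00000000c000000003000000002000030000000300000000030000000200000030000000300000000030000000200003000000000030000c000000000040000c0000000000c000030000000000200000c000000000c00000c000000000800000300000000030000030000000002000000c000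00000c0000003000000001000000c00000000c00000030000000020000000300000003000000030000000200000003000000030000000300000002000000000000000000000000000000000000000000000000000000000000000000000000082020082008082000000000000101400000000000000000014040000000000002802008400104100000000000080280000000000000000004104000000000000000000000000000000000000000000000000000000000000000000000000000400110040280082000000000002002800000000000000000100440000000000000000000000000000000000000000000000000000000000000000000000000000000000000000000000000000000000000000000000000000000000000000000100410040410041000000000004001400000000000000000400140000000000000000000000000000000000000000000000000000000000000000000000000000280800202808002000000000100400100000000000000000140400000000000082080020410400100000000080080020000000000000000041040000000000000000000000000000000000000000000000000000000000000000000000000001004400120088002000000002000800200000000000000001004400000000000000000000000000000000000000000000000000000000000000000000000000000000000000000000000000000000000000000000000000000000000000000004001400140014001000000004000400100000000000000004001400000411400000000000000000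0820000280028020000000000000000001400004000282800000000000000000028000028004101000000000000000000410000400000000000000000000000000000000000000000000000000000000000000000000000000000000000000000000000000000000000000000000000000000000000000000000000000000000000000000000000000000000000000000000000000000000000000000000000000000000000000000000000000000000000000000820028000000000000000000004100142800800000000000000000000014004014001400000000000000000000140014410040000000000000000000004100401400004100000000000000002800008228000002000000000000000014000040820000820000000000000000820000824100000100000000000000004100004000000000000000000000000000000000000000000000000000000000000000000000000000000000000000000000000000000000000000000000000000000000000000000000000000000000000000000000000000000000000000000000000000000000000000000000000000000000000000000000000000000000000000000028008200000000000000000014004100280080000000000000000000140040004100410000000000000000004100410041004000000000000000000041004004011040000000000208802000000000000000000020020800000000104004000000000000000000000000000000000000000000000000000000000000000000020820800000000004014010000000000000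0000008002080000000040100400000000000000000000000000000000000000000000000000000000000000000000000000000000000000000000000000000000000000000000000000000000008020208000000000208080200000000000000000000101040000000001040400000000000000000000000000000000000000000000000000000000000000000010401040000000004010401000000000000000000004010400000000040104001040040100000000208008020000000000000000200008020000000010400400000000000000000000000000000000000000000000000000000000000000000080200802000000004010040100000000000000008000080200000000401004000000000000000000000000000000000000000000000000000000000000000000000000000000000000000000000000000000000000000000000000000000000002080802000000000208080200000000000000000100040100000000010404000000000000000000000000000000000000000000000000000000000000000000040104010000000004010401000000000000000004000401000000000401040000000000000000000000000000000000000000000000000000000000000000000000000000000000000000000000000000000000000000000000000000000000000000000000000000000000000000000000000000000000000000000000000000000000000000000000000000000000000000000000000000000000000000000000000000055000000000000a0000a00000000000a002000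0000000500000040000000000a0a00000000000a00000a000000000000501000000000005000004000000000a00a000000000000005005000000000a0000800000000000050000400000000500050000000000000500050000000000500040000000000000500040000000000000000000000000000000000000000000000000000000000000000000000000000000000000000000000000000000000000000000000000000000000000000000000000000000000000000000000000000000000000000000000000000000000000000000000000000000000000000000000000000000000000000000000005000000500000000a000000a00000000a00000020000000050000004000000000a00000a000000000a00000a000000000500000100000000050000040000000000a0000a00000000005000050000000000a000080000000000500004000000000005000500000000000500050000000000050004000000000005000410010440022080080000000000000000000000000000000000080220044010000000000000000000000000000000000000000000000000000000000000000000000000000000000000000000000000000000000000000000000000000000000080080880088080080000000000000000000000000000000000010110011010000220088010014004000000000000000000000000000000000080022040041000000000000000000000000000000000000000000000000000000000000000000000000000000000000000000000000000000000000000000000000000000000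0004400440400440040000000000000000000000000000000000100110100110000440100108802002000000000000000000000000000000000800200204401000000000000000000000000000000000000000000000000000000000000000000000000000000000000000000000000000000000000000000000000000000000000220200202202002000000000000000000000000000000000100100101101000800820024004100100000000000000000000000000000000800020024004100000000000000000000000000000000000000000000000000000000000000000000000000000000000000000000000000000000000000000000000000000000000100110011001100100000000000000000000000000000000100010011001100000000000000000000000000000000000000000000000000000000000000000000000000000000000000000000000000000000000000000000000000000000000000000000000000000114400220000880000000000000000008802004400001000000000000000000088880088000088000000000000000000110100110000100000000000000000000000000000000000000000000000000000000000000000000000000000000000000000000000000000000000000000000000000000000000000000000000002200880000110044000000000000000088002000004400100000000000000000440044000044004400000000000000001100100000110010000000000000000000000000000000000000000000000000000000000000000000000000000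0000000000000000000000000000000000000000000000000000000000000000000004400001188000022000000000000000088000002440000100000000000000000220000222200002200000000000000001100000111000010000000000000000000000000000000000000000000000000000000000000000000000000000000000000000000000000000000000000000000000000000000000000000000000000008800220044001100000000000000000088002000440010000000000000000000110011001100110000000000000000001100100011001000000000000000000000000000000000000000000000000000000000000000000000000000000000000000000000000001014040202008080808202000400100000000000000000000000000000000000000000000000000000000000000000000000000000000000000000000000000080880808080080801011010001001000000000000000000000000000000000000000000000000000000000000000000000000000000000000000000000000002020808001010404808020200004010000000000000000000000000000000000000000000000000000000000000000000000000000000000000000000000000040404040040404041010101000010100000000000000000000000000000000000000000000000000000000000000000000000000000000000000000000000000404001018080020280800202400001000000000000000000000000000000000000000000000000000000000000000000000000000000000000000000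000000002020020220200202101001011000010000000000000000000000000000000000000000000000000000000000000000000000000000000000000000000000000008080202040401010808020204000100000000000000000000000000000000000000000000000000000000000000000000000000000000000000000000000000010101010101010101010101010001009669000000000000000000000000000000000000000000000000000000001668000000000000000000000000000000006969000000000000000000000000296800000000000000006699000000000000000000000000000000000000000046980000000000000000000000000000000000000000000000009999000000008998000000005aa500000000000000000000000000000000000000000000000052a40000000000000000000000000000000000000000a5a50000000000000000a1a4000000000000000000000000aa5500000000000000000000000000000000a854000000000000000000000000000000000000000000000000000000005555545400003cc300000000000000000000000000000000000000000000000000003c42000000000000000000000000000000000000c3c300000000000000000000c38200000000000000000000cc33000000000000000000000000000000000000cc120000000000000000000000000000000000000000000000000000333300003322000000000000f00f00000000000000000000000000000000000000000000f006000000000000000000000000000000000000000000000f0f0000000000000f0a000000000000000000000000000000ff000000000000000000000000000000fc0000000000000000000000000000000000000000000000000000000000000000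

/-- mask of the pairs `256 c + n`, `n` in the quad `c` (all `n` for `c = 0`) -/
def QM : Nat := 0x33000000330000000000000000000000330000003300400040400040004000400000400040000100010100010001000100000100018000080000800008400004000040000420000200002000021000010000100001000000000000000000000000000000000000000000000000888822224444111100000000000060096009000000000000600900000000000000000000000060090001040000208000040000018000002000208000000104008000002004000001020000801000000404000010800000020100004020000008080000204000000100001842000000004218000000000000000000008124000000000000000024819009000000009009000000000000000000000000000000009009000000009009100010001000100000100010001000100100010001000100000100010001000104000040400000040200002020000002080000808000000801000010100000010000000000000000000000000000000028288282000000000000000014144141000000c30000000000000000000000c3000000c30000000000000000000000c3040000010080200000010400200000802000008000010400008020000400000110000400002000082000080000100004400001000080000280000200004000011248000000000000000048120000000000000000218400000000000000008421066000000000600600000000000000000000000000000000099000000000900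900080800008080000200000220000020004040000004040010000010010000010020000200200002001000010010000100200002002000020010000100100001000000000000000000000000000000004141414100000000000000004141414100003c0000000000000000000000003c0000c3000000000000000000000000c300200080100040002000800000100040000800020400010008000200000400010008200040000001000140002000000800014000200000080008200040000001842100000000000000008421000000000000000084210000000000000000842100000000000000000000cc00000000cc0000000000000000000033000000003302000002002020000008080080000080400000400004040000101000010000010001100010000001000880008000000800088000800000080001100010000001000000000000000000000000000000000000000000000000111111111111111100000000000090060690000000000000096000000000000000000000000060098000200040001000008000200040001008000200040001000008000200040001004000010080000200800002004000010040000100800002008000020040000100002481000000002481000000000000000000002481000000000000000024818241000000000000000000008241000000008241000000000000000000008241000800020004000100080002000400010008000200040001000800020004000104001000080020000008002000040010400001008000020000800002004000010000000050a0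000000000000a0500000000000000000050a0000000000000a05000000000000000022110000221100000000000000000000000022110000221104000400000400040400040000040004010001000001000101000100000100010008008008008000040040000004004000200002200002001000010000100001000000000000000000000000000000000000000000000000000000000000ffff000000004821000000004821000000004821000000000000000000000000482102000800000100040200080000010004080002000004000108000200000400018000000200041000001004000200008001000040002008000008200040000001000000000000f00000000000000000f00000000000000f00000000000000000f0000188118810000000000000000000000000000000000001881000000001881000100010001000100010001000100010001000100010001000100010001000100400400000440002000000202000020000880000080080001000010100000010000000000000000000000000000000000000000a0a00a0a0000000050500505000000001284000000008412000000002148000000000000000000000000482100401000080000020010400002000008002080000100000400802000040000010001004002008000020080000001004000400001800002008000020000400001000000000000000f000000000000000f000000000000000f000000000000000f00002442422400000000000000000000000000000000000081180000000018818000008008000008200000200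20000024000004004000004100000100100000102002000020020000001001000010010200002002000020000100001001000010000000000000000000000000000000000000000050505050000000005050505142800000000000000000000281400000000418200000000000000000000824110000040020000084000001008000002200000800100000480000020040000010020080000014000400000010800002000014000002008000800002040000001000000000a050000000000000a0500000000000000000a050000000000000a05000000000000000044880000884400000000000000000000000011220000221100202000020000020080800008000008004040000400000400101000010000011000000100011000008008000800008008000080008008000001100010000001ffffffffffffffffffffffffffffffffffffffffffffffffffffffffffffffff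

/-- mask of the pairs `64 p + c`, `p` in the quad `c ≠ 0` -/
def PM : Nat := 0x20800104802004000000000000000000000000000000000000c30000000000c20000000000000000002481002400008002018040804002000000000000000000000000000000000040018002800240000000a500000000a4000000000000000000814200420000800000000000000000000000000000000004800120800420000000000000000000000000000000000000000a0500000a04014008202008400021004800004800200402080104020800000000000000000000000000000000000208040102080400412800000000284000000000000000000000000000000000000000000000000000000000000000000108204040200800000c0003000c0002000000000000000040200204108008000000000000000000024004201008800000000000228844100000000000000000000000000000aa54000000000000000020044002100880000000000000000000040220401080080000000000000000000000000000000000000000004422881000000000000000000000000000cc003204804008021020004800840000120020080480402010020000c0000c0030000200000000000000000000000000000000000000000000000000000000000000000000000000000000000000000000000000000000000000000000000000000000288200000000144002208008044010000000a00a000050040880022040041000000000000000000069000000000000680802040108020400000000000000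000000000000000000000600000906000008012040080840200000000000000000000000000f0000000e0000000000000000000000000000000001402008082040000900006060000008000000000000000000000000000000000804020108040200000005a00000a004400102800280400000000000000000000000000000000000000300c000c0000220040180042080000000000000000000000000000000000000000000000000000000000000000000802001042080040082410000000082400000000000000000000000000000000080014002400280008400210000840020060000609000000800000000000000000024420018000080000000000000000000000000000000fe0000000000000000000000008822441000000000000000000000000000000000600000069000000800000000000000000042240018000080000000000000000000000000660000980000000000000000000000008844221000000000000000000000000000000000000000000000000000000000000000000000000000000000000000000000000000000000000000000000000000000000000c00c00030000240080480021020008400480000120020804008042010020000000aa00000500420020880044010008228000000001440800820024004100000000000000000000802104020800400281400000000824000000000000000000030000c00c0000200000000000000000000000000000000024010080420800000000000000000000000500a0000a00404102008028040000000000000000000081004204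0028000000000000000000000000000000000004800120000840020041008208002400000005a00000000a4000000000000000000000000000000000000000000000000000000000000000020100804804002000042180024000080003c0000000000c2020810408020040000000000000000000000000000000000000000000000000000000000000000000018240042000080400810028004200001200120200120000000000000000000020102010201020000000000000000000000000000000000000005050000050400000000000000004141000000004140000300030003000200000000000000002100210000210020000000000000000000000000000000000101404040400100000000000000000004040101040401000000000000000000000000000000000000000000000000000000000000000000000000000033003204044040101001000000000022112210404004041010010000000000000000000000000000000000000000000000000000000000000000000220022010011000000000000000555420022002100110000000000044441110148200000000284000000000000000000000000000000000208040100208040012008400004800200000000000000000000000000000000040208010040208001004800220084000000000000000000000000000000000000000a05000000a0410800204402008000000000000000000000000000000000000c00030000c0002000000000000000000000000000000001004028008204000000000f00000000e0000000000000000000000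000000000010020480084020006000009006000008000000000000000000000000000000009600000000000068802040100802040000000000000000000000000000000000900000066000000880402010080402000000000000000000120012000021002000000000000000000030003000030002000000000000000014140000000041400000000000000000000050500000050400000000000000001002100220012000000000000000000020102010020102000000000000000000101004044040010000000000000000004040101004040100008181008100008008101008018080000900000909000008108080100108080000000000118888100101010101010100000000009900009810101010010101000108080101080800001818008100008080010180018080009000009009000008088080080110100000000000111111108008088001101000fffffffffffffffe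

/-- generators `p, q, r, s` of the quads, `p ~ r ~ q ~ s ~ p` -/
def conf : List (Nat × Nat × Nat × Nat) := [(0,0,0,0),
  (28,135,44,75),
  (24,131,44,66),
  (4,146,9,33),
  (2,144,9,64),
  (30,133,37,75),
  (26,129,37,66),
  (6,146,9,97),
  (2,16,8,64),
  (20,132,32,73),
  (24,129,36,66),
  (7,51,12,225),
  (1,64,2,128),
  (22,134,41,73),
  (26,131,45,66),
  (5,115,14,161),
  (2,20,8,65),
  (28,133,36,75),
  (16,128,32,64),
  (7,48,12,224),
  (1,72,2,132),
  (30,135,45,75),
  (18,130,41,64),
  (5,112,14,160),
  (1,8,2,4),
  (20,134,40,73),
  (16,130,40,64),
  (4,144,9,32),
  (2,148,9,65),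
  (22,132,33,73),
  (18,128,33,64),
  (6,144,9,96),
  (7,80,10,224),
  (22,128,33,65),
  (18,132,33,72),
  (3,117,14,193),
  (4,16,8,32),
  (28,131,44,67),
  (24,135,44,74),
  (1,40,4,130),
  (5,80,10,160),
  (30,131,45,67),
  (18,134,41,72),
  (1,104,6,130),
  (6,16,8,96),
  (20,128,32,65),
  (24,133,36,74),
  (3,52,12,193),
  (5,82,10,161),
  (22,130,41,65),
  (26,135,45,74),
  (1,96,6,128),
  (6,18,8,97),
  (28,129,36,67),
  (16,132,32,72),
  (3,48,12,192),
  (7,82,10,225),
  (30,129,37,67),
  (26,133,37,74),
  (3,112,14,192),
  (4,18,8,33),
  (20,130,40,65),
  (16,134,40,72),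
  (1,32,4,128)]

/-- matrices of the transvections -/
def YL : List (List Nat) := [[1,2,4,8,16,32,64,128],
  [134,73,40,20,32,16,144,96],
  [130,64,40,16,8,20,2,65],
  [5,11,4,12,56,36,210,161],
  [3,2,13,10,80,176,64,192],
  [132,73,33,22,96,128,144,32],
  [128,64,33,18,72,132,2,1],
  [7,11,13,14,120,180,210,225],
  [3,2,12,8,16,48,64,192],
  [133,75,36,28,48,32,208,160],
  [128,64,32,16,8,4,2,1],
  [6,9,8,4,40,20,146,97],
  [1,2,5,10,80,160,64,128],
  [135,75,45,30,112,176,208,224],
  [130,64,41,18,72,148,2,65],
  [4,9,1,6,104,132,146,33],
  [3,2,12,8,24,52,66,193],
  [132,73,32,20,40,4,146,33],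
  [129,66,36,24,16,32,64,128],
  [6,9,8,4,32,16,144,96],
  [1,2,5,10,88,164,66,129],
  [134,73,41,22,104,148,146,97],
  [131,66,45,26,80,176,64,192],
  [4,9,1,6,96,128,144,32],
  [1,2,4,8,24,36,66,129],
  [135,75,44,28,56,52,210,225],
  [131,66,44,24,16,48,64,192],
  [5,11,4,12,48,32,208,160],
  [3,2,13,10,88,180,66,193],
  [133,75,37,30,120,164,210,161],
  [129,66,37,26,80,160,64,128],
  [7,11,13,14,112,176,208,224],
  [6,8,9,2,64,144,16,96],
  [129,67,37,30,112,160,192,128],
  [133,74,37,26,88,164,82,161],
  [2,1,9,6,104,148,130,65],
  [5,10,4,8,16,32,80,160],
  [130,65,40,20,32,16,128,64],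
  [134,72,40,16,8,20,18,97],
  [1,3,4,12,56,36,194,129],
  [4,8,1,2,64,128,16,32],
  [130,65,41,22,96,144,128,64],
  [135,74,45,26,88,180,82,225],
  [1,3,5,14,120,164,194,129],
  [7,10,12,8,16,48,80,224],
  [129,67,36,28,48,32,192,128],
  [132,72,32,16,8,4,18,33],
  [2,1,8,4,40,20,130,65],
  [4,8,1,2,72,132,18,33],
  [131,67,45,30,120,180,194,193],
  [134,72,41,18,64,144,16,96],
  [1,3,5,14,112,160,192,128],
  [7,10,12,8,24,52,82,225],
  [128,65,32,20,40,4,130,1],
  [133,74,36,24,16,32,80,160],
  [2,1,8,4,32,16,128,64],
  [6,8,9,2,72,148,18,97],
  [128,65,33,22,104,132,130,1],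
  [132,72,33,18,64,128,16,32],
  [2,1,9,6,96,144,128,64],
  [5,10,4,8,24,36,82,161],
  [131,67,44,28,56,52,194,193],
  [135,74,44,24,16,48,80,224],
  [1,3,4,12,48,32,192,128]]

/-- `Y c` is the product of the Siegel elements of three lines -/
def PL : List ((Nat × Nat) × (Nat × Nat) × (Nat × Nat)) := [((0,0),(0,0),(0,0)),
  ((28,44),(87,183),(75,155)),
  ((24,44),(110,155),(118,183)),
  ((4,33),(44,159),(40,146)),
  ((2,9),(64,146),(66,155)),
  ((30,37),(85,190),(75,155)),
  ((37,129),(63,195),(26,66)),
  ((97,146),(6,9),(103,155)),
  ((18,64),(26,66),(2,8)),
  ((20,32),(105,144),(125,176)),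
  ((36,129),(66,153),(126,189)),
  ((7,225),(51,222),(56,210)),
  ((1,2),(66,131),(64,130)),
  ((22,41),(96,144),(118,185)),
  ((26,45),(88,180),(66,153)),
  ((115,161),(5,11),(125,164)),
  ((22,65),(30,67),(2,8)),
  ((87,189),(115,161),(56,206)),
  ((16,32),(80,176),(64,144)),
  ((7,224),(55,219),(60,215)),
  ((1,2),(73,134),(75,135)),
  ((30,45),(85,180),(75,153)),
  ((18,41),(82,185),(64,144)),
  ((112,160),(5,11),(126,165)),
  ((1,2),(6,9),(7,11)),
  ((97,146),(20,40),(117,186)),
  ((16,40),(104,146),(120,186)),
  ((4,32),(45,153),(41,148)),
  ((65,148),(2,9),(67,157)),
  ((22,33),(104,146),(126,179)),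
  ((18,33),(82,179),(64,146)),
  ((96,144),(6,9),(102,153)),
  ((80,176),(7,10),(90,189)),
  ((22,33),(87,183),(65,150)),
  ((18,33),(105,150),(123,183)),
  ((117,180),(3,13),(123,185)),
  ((16,32),(20,40),(12,52)),
  ((28,44),(95,179),(67,159)),
  ((82,179),(24,44),(74,159)),
  ((1,4),(45,131),(41,130)),
  ((5,160),(90,175),(85,170)),
  ((30,45),(110,157),(112,176)),
  ((18,41),(97,148),(115,189)),
  ((1,6),(104,130),(110,131)),
  ((6,96),(22,104),(24,110)),
  ((20,32),(85,180),(65,148)),
  ((82,185),(110,157),(36,133)),
  ((55,193),(59,194),(3,12)),
  ((5,161),(93,174),(82,171)),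
  ((22,41),(104,148),(126,189)),
  ((26,45),(80,176),(74,157)),
  ((1,6),(103,129),(97,128)),
  ((6,97),(18,105),(28,111)),
  ((28,36),(95,185),(67,157)),
  ((16,32),(104,148),(120,180)),
  ((51,192),(63,195),(3,12)),
  ((82,179),(85,190),(13,180)),
  ((30,37),(102,159),(120,186)),
  ((26,37),(80,186),(74,159)),
  ((3,13),(115,179),(125,190)),
  ((18,33),(22,41),(12,55)),
  ((20,40),(85,190),(65,150)),
  ((16,40),(96,150),(112,190)),
  ((1,4),(37,129),(33,128))]


def full : Nat := 2 ^ 256 - 1

def adj (p q : Nat) : Bool := Nat.testBit RM (256 * p + q)

def inQ (c n : Nat) : Bool := Nat.testBit QM (256 * c + n)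

def row (p : Nat) : Nat := Nat.land (Nat.shiftRight RM (256 * p)) full

def qmask (c : Nat) : Nat := Nat.land (Nat.shiftRight QM (256 * c)) full

def quads (p : Nat) : Nat := Nat.land (Nat.shiftRight PM (64 * p)) (2 ^ 64 - 1)

def cf (c : Nat) : Nat × Nat × Nat × Nat := conf.getD c (0, 0, 0, 0)

def Y (c : Nat) : List Nat := YL.getD c []

/-- the form on codes `< 64` -/
def formc (c d : Nat) : Bool :=
  xor (xor (xor (Nat.testBit c 0 && Nat.testBit d 3) (Nat.testBit c 3 && Nat.testBit d 0))
    (xor (Nat.testBit c 1 && Nat.testBit d 4) (Nat.testBit c 4 && Nat.testBit d 1)))
    (xor (Nat.testBit c 2 && Nat.testBit d 5) (Nat.testBit c 5 && Nat.testBit d 2))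

/-- the sixteen combinations -/
def combos (p q r s : Nat) : List Nat :=
  [0, p].flatMap fun A => [0, q].flatMap fun B => [0, r].flatMap fun C => [0, s].map fun D =>
    Nat.xor A (Nat.xor B (Nat.xor C D))

/-- the six ordered pairs of points of a line -/
def six (u v : Nat) : List Nat :=
  let w := Nat.xor u v
  [256 * u + v, 256 * v + u, 256 * u + w, 256 * w + u, 256 * v + w, 256 * w + v]

/-- bounded universal quantifier -/
def allLT (f : Nat → Bool) : Nat → Bool
  | 0 => true
  | n + 1 => f n && allLT f n

theorem allLT_spec {f : Nat → Bool} : ∀ {n : Nat}, allLT f n = true → ∀ i < n, f i = true := by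
  intro n
  induction n with
  | zero => intro _ i hi; exact absurd hi (Nat.not_lt_zero i)
  | succ n ih =>
    intro h i hi
    simp only [allLT, Bool.and_eq_true] at h
    rcases Nat.lt_succ_iff_lt_or_eq.1 hi with h1 | h1
    · exact ih h.2 i h1
    · rw [h1]; exact h.1

theorem RM_eq : maskOf ((T45.flatten ++ TA4.flatten).flatMap fun e => six e.1 e.2.1) = RM := by
  decide +kernel

/-- two points at distance two lie in a quad, which contains their common neighbours -/
def chk2 (p q : Nat) : Bool :=
  let m := Nat.land (row p) (row q)
  Nat.beq p q || (Nat.beq m 0 || (adj p q ||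
    (let c := Nat.log2 (Nat.land (quads p) (quads q))
     (Nat.blt 0 c && Nat.blt c 64) && ((inQ c p && inQ c q) && Nat.beq (Nat.land m (qmask c)) m))))

theorem quad_ex : allLT (fun p => Nat.beq (row p) 0 || allLT (fun q => Nat.beq (row q) 0 || chk2 p q) 256)
    256 = true := by decide +kernel

/-- the configurations -/
def chk3 (c : Nat) : Bool :=
  let x := cf c
  (adj x.1 x.2.2.1 && (adj x.2.2.1 x.2.1 && (adj x.2.1 x.2.2.2 && (adj x.2.2.2 x.1 &&
    (!adj x.1 x.2.1 && !Nat.beq x.1 x.2.1))))) &&
  ((Nat.blt x.1 256 && Nat.blt x.2.1 256) && (Nat.blt x.2.2.1 256 && Nat.blt x.2.2.2 256))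

theorem conf_ok : ∀ c < 64, c ≠ 0 → chk3 c = true := by decide +kernel

theorem qmask_eq : ∀ c < 64, c ≠ 0 →
    maskOf (combos (cf c).1 (cf c).2.1 (cf c).2.2.1 (cf c).2.2.2) = qmask c := by decide +kernel

theorem qmask_zero : qmask 0 = full := by decide +kernel

def chk4 (c d : Nat) : Bool :=
  let m := Nat.land (qmask c) (qmask d)
  cond (formc c d) (Nat.beq m 1)
    (let n := Nat.log2 m
     (Nat.blt 0 n && Nat.blt n 256) && (inQ c n && inQ d n))

theorem form_ok : allLT (fun c => allLT (fun d => chk4 c d) 64) 64 = true := by decide +kernel

theorem anti_ok : allLT (fun c => Nat.beq c 0 || allLT (fun d => Nat.beq d 0 || (Nat.beq c d ||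
    !Nat.beq (Nat.land (qmask c) (qmask d)) (qmask c))) 64) 64 = true := by
  decide +kernel

theorem univ_ok : ∀ c < 64, c ≠ 0 → qmask c ≠ full := by decide +kernel

def chk6 (w c : Nat) : Bool :=
  let x := cf c
  let d := cond (formc c w) (Nat.xor c w) c
  let y := Y w
  let m := qmask d
  ((Nat.testBit m (apc y x.1) && Nat.testBit m (apc y x.2.1)) &&
    (Nat.testBit m (apc y x.2.2.1) && Nat.testBit m (apc y x.2.2.2)))

theorem trans_ok : allLT (fun w => Nat.beq w 0 || allLT (fun c => Nat.beq c 0 || chk6 w c) 64) 64 = true := by
  decide +kernel

def chk7 (w : Nat) : Bool :=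
  let x := PL.getD w ((0, 0), (0, 0), (0, 0))
  (comp (sgc x.1.1 x.1.2) (comp (sgc x.2.1.1 x.2.1.2) (sgc x.2.2.1 x.2.2.2)) == Y w) &&
    (((Nat.blt x.1.1 256 && Nat.blt x.1.2 256) && ((Nat.blt x.2.1.1 256 && Nat.blt x.2.1.2 256) &&
      (Nat.blt x.2.2.1 256 && Nat.blt x.2.2.2 256))) &&
    (adj x.1.1 x.1.2 && (adj x.2.1.1 x.2.1.2 && adj x.2.2.1 x.2.2.2)))

theorem prod_ok : ∀ w < 64, w ≠ 0 → chk7 w = true := by decide +kernel

theorem fix_ok : allLT (fun i => allLT (fun n => Nat.beq n 0 || (Nat.beq n (2 ^ i) ||
    !allLT (fun c => !inQ c (2 ^ i) || inQ c n) 64)) 256) 8 = true := by decide +kernel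

end Cfsg.Agent.LargeExtra.Nine.SpData
end

-- part: LargeExtra/Nine/SpSix
section
/-!
# S1763, the case `Sp(6, 2)`: the group permuting the 315 lines is `Sp(6, 2)`

`nonempty_sp`: let `H` be a group of linear maps of `V = Q / ⟨z⟩` which in the coordinates `φ` preserves the
collinearity relation `adj` of the 315 lines `T45 ∪ TA4` and contains their Siegel elements. Then
`H ≃* Sp(6, 2)`.
-/

set_option autoImplicit false

namespace Cfsg.Agent.LargeExtra.Nine.SpSix

open Cfsg.Agent.Co2Type.Quad Cfsg.Agent.LargeExtra.Base Cfsg.Agent.LargeExtra.Nine
open UTree UCode UEnum SpData SpPerm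
open Cfsg.Agent.LargeExtra.KillNine.Codes (ap mulL vec_zero vec_xor lin_vec exists_code vec_inj
  basis_vec lin_mulL)
open Cfsg.Agent.ClassicalGeometry.SympBasic

/-! ### codes -/

theorem apc_eq {L : List ℕ} (hL : L.length = 8) (n : ℕ) : apc L n = ap L n := by
  match L, hL with
  | [a0, a1, a2, a3, a4, a5, a6, a7], _ =>
    -- by definition (so that no unfolding lemma of `apc` is generated in this file)
    have ac : ∀ (a : ℕ) (M : List ℕ) (v : ℕ),
        apc (a :: M) v = Nat.xor (cond (Nat.testBit v 0) a 0) (apc M (v / 2)) := fun _ _ _ => rfl
    have an : ∀ v : ℕ, apc [] v = 0 := fun _ => rfl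
    simp only [ac, an, ap, List.getD_cons_zero, List.getD_cons_succ]
    have h : ∀ k : ℕ, Nat.testBit (k / 2) 0 = Nat.testBit k 1 := fun k => Nat.testBit_div_two k 0
    have e1 : Nat.testBit (n / 2) 0 = Nat.testBit n 1 := Nat.testBit_div_two n 0
    have e2 : Nat.testBit (n / 2 / 2) 0 = Nat.testBit n 2 := by
      rw [Nat.testBit_div_two, Nat.testBit_div_two]
    have e3 : Nat.testBit (n / 2 / 2 / 2) 0 = Nat.testBit n 3 := by
      rw [Nat.testBit_div_two, Nat.testBit_div_two, Nat.testBit_div_two]
    have e4 : Nat.testBit (n / 2 / 2 / 2 / 2) 0 = Nat.testBit n 4 := by
      rw [Nat.testBit_div_two, Nat.testBit_div_two, Nat.testBit_div_two, Nat.testBit_div_two]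
    have e5 : Nat.testBit (n / 2 / 2 / 2 / 2 / 2) 0 = Nat.testBit n 5 := by
      rw [Nat.testBit_div_two, Nat.testBit_div_two, Nat.testBit_div_two, Nat.testBit_div_two,
        Nat.testBit_div_two]
    have e6 : Nat.testBit (n / 2 / 2 / 2 / 2 / 2 / 2) 0 = Nat.testBit n 6 := by
      rw [Nat.testBit_div_two, Nat.testBit_div_two, Nat.testBit_div_two, Nat.testBit_div_two,
        Nat.testBit_div_two, Nat.testBit_div_two]
    have e7 : Nat.testBit (n / 2 / 2 / 2 / 2 / 2 / 2 / 2) 0 = Nat.testBit n 7 := by
      rw [Nat.testBit_div_two, Nat.testBit_div_two, Nat.testBit_div_two, Nat.testBit_div_two,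
        Nat.testBit_div_two, Nat.testBit_div_two, Nat.testBit_div_two]
    rw [e1, e2, e3, e4, e5, e6, e7]
    have hx : ∀ a b : ℕ, Nat.xor a b = a ^^^ b := fun _ _ => rfl
    have h0 : ∀ a : ℕ, a ^^^ 0 = a := Nat.xor_zero
    simp only [hx, h0, Bool.cond_eq_ite, Nat.xor_assoc]

theorem lin_vec' {L : List ℕ} (hL : L.length = 8) (n : ℕ) : lin L (vec n) = vec (apc L n) := by
  rw [lin_vec, apc_eq hL]

theorem vec_xor' (a b : ℕ) : vec (Nat.xor a b) = vec a + vec b := vec_xor a b

section

variable {G : Type*} [Group G] {Q : Subgroup G} {z : G} {h : Large Q z} {φ : Coord h}

theorem acts_comp {L M : List ℕ} (hL : L.length = 8) {f g : h.V ≃ₗ[ZMod 2] h.V}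
    (hf : Acts φ L f) (hg : Acts φ M g) : Acts φ (comp L M) (f * g) := by
  have e : comp L M = mulL M L := by
    unfold comp mulL
    exact List.map_congr_left fun a _ => apc_eq hL a
  rw [e]
  exact KillNine.Codes.Acts.mul hg hf

end

/-! ### the quads as subspaces -/

theorem mem_combos {p q r s n : ℕ} : n ∈ combos p q r s ↔
    ∃ A, (A = 0 ∨ A = p) ∧ ∃ B, (B = 0 ∨ B = q) ∧ ∃ C, (C = 0 ∨ C = r) ∧ ∃ D, (D = 0 ∨ D = s) ∧
      A ^^^ (B ^^^ (C ^^^ D)) = n := by
  have hm : ∀ a b : ℕ, a ∈ [0, b] ↔ (a = 0 ∨ a = b) := fun a b => by
    rw [List.mem_cons, List.mem_singleton]
  unfold combos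
  constructor
  · intro h1
    obtain ⟨A, hA, h1⟩ := List.mem_flatMap.1 h1
    obtain ⟨B, hB, h1⟩ := List.mem_flatMap.1 h1
    obtain ⟨C, hC, h1⟩ := List.mem_flatMap.1 h1
    obtain ⟨D, hD, h1⟩ := List.mem_map.1 h1
    exact ⟨A, (hm _ _).1 hA, B, (hm _ _).1 hB, C, (hm _ _).1 hC, D, (hm _ _).1 hD, h1⟩
  · rintro ⟨A, hA, B, hB, C, hC, D, hD, h1⟩
    exact List.mem_flatMap.2 ⟨A, (hm _ _).2 hA, List.mem_flatMap.2 ⟨B, (hm _ _).2 hB,
      List.mem_flatMap.2 ⟨C, (hm _ _).2 hC, List.mem_map.2 ⟨D, (hm _ _).2 hD, h1⟩⟩⟩⟩

theorem xor_lt {a b : ℕ} (ha : a < 256) (hb : b < 256) : a ^^^ b < 256 :=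
  Nat.xor_lt_two_pow (n := 8) ha hb

theorem smul_vec (a : ZMod 2) (p : ℕ) : ∃ A, (A = 0 ∨ A = p) ∧ a • vec p = vec A := by
  have h2 : a = 0 ∨ a = 1 := by revert a; decide
  rcases h2 with rfl | rfl
  · exact ⟨0, Or.inl rfl, by rw [zero_smul, vec_zero]⟩
  · exact ⟨p, Or.inr rfl, by rw [one_smul]⟩

theorem vec_mem_span {p q r s n : ℕ} (hp : p < 256) (hq : q < 256) (hr : r < 256) (hs : s < 256)
    (hn : n < 256) :
    vec n ∈ Submodule.span (ZMod 2) ({vec p, vec q, vec r, vec s} : Set F8) ↔ n ∈ combos p q r s := by
  rw [mem_combos]
  constructor
  · intro h1
    rw [Submodule.mem_span_insert] at h1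
    obtain ⟨a, x, hx, h1⟩ := h1
    rw [Submodule.mem_span_insert] at hx
    obtain ⟨b, y, hy, rfl⟩ := hx
    rw [Submodule.mem_span_insert] at hy
    obtain ⟨c, w, hw, rfl⟩ := hy
    rw [Submodule.mem_span_singleton] at hw
    obtain ⟨d, rfl⟩ := hw
    obtain ⟨A, hA, eA⟩ := smul_vec a p
    obtain ⟨B, hB, eB⟩ := smul_vec b q
    obtain ⟨C, hC, eC⟩ := smul_vec c r
    obtain ⟨D, hD, eD⟩ := smul_vec d s
    refine ⟨A, hA, B, hB, C, hC, D, hD, ?_⟩
    have hA' : A < 256 := by rcases hA with rfl | rfl <;> omega
    have hB' : B < 256 := by rcases hB with rfl | rfl <;> omega
    have hC' : C < 256 := by rcases hC with rfl | rfl <;> omega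
    have hD' : D < 256 := by rcases hD with rfl | rfl <;> omega
    apply vec_inj _ (xor_lt hA' (xor_lt hB' (xor_lt hC' hD'))) _ hn
    rw [vec_xor, vec_xor, vec_xor, ← eA, ← eB, ← eC, ← eD]
    exact h1.symm
  · rintro ⟨A, hA, B, hB, C, hC, D, hD, rfl⟩
    have key : ∀ x y : ℕ, vec y ∈ ({vec p, vec q, vec r, vec s} : Set F8) → (x = 0 ∨ x = y) →
        vec x ∈ Submodule.span (ZMod 2) ({vec p, vec q, vec r, vec s} : Set F8) := by
      rintro x y hy (rfl | rfl)
      · rw [vec_zero]; exact Submodule.zero_mem _
      · exact Submodule.subset_span hy
    rw [vec_xor, vec_xor, vec_xor]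
    exact Submodule.add_mem _ (key A p (by simp) hA) (Submodule.add_mem _ (key B q (by simp) hB)
      (Submodule.add_mem _ (key C r (by simp) hC) (key D s (by simp) hD)))

/-- the quad `c` -/
def T (c : ℕ) : Submodule (ZMod 2) F8 :=
  if c = 0 then ⊤ else
    Submodule.span (ZMod 2) {vec (cf c).1, vec (cf c).2.1, vec (cf c).2.2.1, vec (cf c).2.2.2}

theorem T_zero : T 0 = ⊤ := if_pos rfl

theorem T_ne {c : ℕ} (hc : c ≠ 0) : T c =
    Submodule.span (ZMod 2) {vec (cf c).1, vec (cf c).2.1, vec (cf c).2.2.1, vec (cf c).2.2.2} :=
  if_neg hc

theorem blt_iff {a b : ℕ} : Nat.blt a b = true ↔ a < b := by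
  unfold Nat.blt
  rw [Nat.ble_eq]
  rfl

theorem beq_iff {a b : ℕ} : Nat.beq a b = true ↔ a = b := Nat.beq_eq ▸ Iff.rfl

structure Conf (p q r s : ℕ) : Prop where
  pr : adj p r = true
  rq : adj r q = true
  qs : adj q s = true
  sp : adj s p = true
  npq : adj p q = false
  ne : p ≠ q
  hp : p < 256
  hq : q < 256
  hr : r < 256
  hs : s < 256

theorem conf_cf {c : ℕ} (hc : c < 64) (h0 : c ≠ 0) :
    Conf (cf c).1 (cf c).2.1 (cf c).2.2.1 (cf c).2.2.2 := by
  have h1 := conf_ok c hc h0
  unfold chk3 at h1
  simp only [Bool.and_eq_true, Bool.not_eq_true', blt_iff] at h1
  obtain ⟨⟨h1, h2, h3, h4, h5, h6⟩, ⟨h7, h8⟩, h9, h10⟩ := h1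
  refine ⟨h1, h2, h3, h4, h5, ?_, h7, h8, h9, h10⟩
  intro h
  rw [beq_iff.2 h] at h6
  exact Bool.noConfusion h6

theorem testBit_full (n : ℕ) : Nat.testBit full n = decide (n < 256) := by
  show Nat.testBit (2 ^ 256 - 1) n = _
  exact Nat.testBit_two_pow_sub_one 256 n

theorem testBit_row (p n : ℕ) : Nat.testBit (row p) n = (adj p n && decide (n < 256)) := by
  unfold row adj
  rw [show Nat.land (Nat.shiftRight RM (256 * p)) full = (RM >>> (256 * p)) &&& full from rfl,
    Nat.testBit_and, Nat.testBit_shiftRight, testBit_full]

theorem testBit_qmask (c n : ℕ) : Nat.testBit (qmask c) n = (inQ c n && decide (n < 256)) := by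
  unfold qmask inQ
  rw [show Nat.land (Nat.shiftRight QM (256 * c)) full = (QM >>> (256 * c)) &&& full from rfl,
    Nat.testBit_and, Nat.testBit_shiftRight, testBit_full]

theorem testBit_land (a b n : ℕ) : Nat.testBit (Nat.land a b) n = (Nat.testBit a n && Nat.testBit b n) :=
  Nat.testBit_and a b n

theorem mem_maskOf {k : ℕ} : ∀ {L : List ℕ}, k ∈ L → Nat.testBit (maskOf L) k = true := by
  intro L
  induction L with
  | nil => intro h; exact absurd h List.not_mem_nil
  | cons a L ih =>
    intro h
    show (1 <<< a ||| maskOf L).testBit k = true
    rw [Nat.testBit_or, Bool.or_eq_true]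
    rcases List.mem_cons.1 h with rfl | h
    · left
      rw [Nat.testBit_shiftLeft]
      simp
    · right; exact ih h

theorem inQ_iff {c n : ℕ} (hc : c < 64) (h0 : c ≠ 0) (hn : n < 256) :
    inQ c n = true ↔ n ∈ combos (cf c).1 (cf c).2.1 (cf c).2.2.1 (cf c).2.2.2 := by
  have h1 : Nat.testBit (qmask c) n = inQ c n := by
    rw [testBit_qmask, decide_eq_true hn, Bool.and_true]
  rw [← h1, ← qmask_eq c hc h0]
  exact ⟨testBit_maskOf n _, mem_maskOf⟩

theorem inQ_zero {n : ℕ} (hn : n < 256) : inQ 0 n = true := by
  have h1 : Nat.testBit (qmask 0) n = inQ 0 n := by
    rw [testBit_qmask, decide_eq_true hn, Bool.and_true]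
  rw [← h1, qmask_zero, testBit_full, decide_eq_true hn]

theorem mem_T {c n : ℕ} (hc : c < 64) (hn : n < 256) : vec n ∈ T c ↔ inQ c n = true := by
  by_cases h0 : c = 0
  · rw [h0, T_zero]
    exact iff_of_true Submodule.mem_top (inQ_zero hn)
  · have h1 := conf_cf hc h0
    rw [T_ne h0, vec_mem_span h1.hp h1.hq h1.hr h1.hs hn, ← inQ_iff hc h0 hn]

theorem T_le {c : ℕ} (h0 : c ≠ 0) {W : Submodule (ZMod 2) F8}
    (h1 : vec (cf c).1 ∈ W) (h2 : vec (cf c).2.1 ∈ W) (h3 : vec (cf c).2.2.1 ∈ W)
    (h4 : vec (cf c).2.2.2 ∈ W) : T c ≤ W := by
  rw [T_ne h0, Submodule.span_le]
  rintro x (rfl | rfl | rfl | rfl)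
  · exact h1
  · exact h2
  · exact h3
  · exact h4

/-- two points at distance two and two common neighbours lie in a quad -/
theorem exists_quad {p q r s : ℕ} (hc : Conf p q r s) (hpr : adj q r = true) (hps : adj p s = true) :
    ∃ c < 64, c ≠ 0 ∧ inQ c p = true ∧ inQ c q = true ∧ inQ c r = true ∧ inQ c s = true := by
  have h1 := allLT_spec quad_ex p hc.hp
  simp only [Bool.or_eq_true] at h1
  have hr : Nat.testBit (Nat.land (row p) (row q)) r = true := by
    rw [testBit_land, testBit_row, testBit_row, hc.pr, hpr, decide_eq_true hc.hr]; rfl
  have hs : Nat.testBit (Nat.land (row p) (row q)) s = true := by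
    rw [testBit_land, testBit_row, testBit_row, hps, hc.qs, decide_eq_true hc.hs]; rfl
  have e1 : Nat.beq p q = false := by
    rw [← Bool.not_eq_true, beq_iff]; exact hc.ne
  have e2 : Nat.beq (Nat.land (row p) (row q)) 0 = false := by
    rw [← Bool.not_eq_true, beq_iff]
    intro h0
    rw [h0, Nat.zero_testBit] at hr
    exact Bool.noConfusion hr
  have e3 : ∀ {x y : ℕ}, adj x y = true → y < 256 → ¬ (Nat.beq (row x) 0 = true) := by
    intro x y hxy hy h0
    have h3 : Nat.testBit (row x) y = true := by
      rw [testBit_row, hxy, decide_eq_true hy]; rfl
    rw [beq_iff.1 h0, Nat.zero_testBit] at h3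
    exact Bool.noConfusion h3
  have h1 := h1.resolve_left (e3 hc.pr hc.hr)
  have h1 := allLT_spec h1 q hc.hq
  simp only [Bool.or_eq_true] at h1
  have h1 := h1.resolve_left (e3 hc.qs hc.hs)
  unfold chk2 at h1
  simp only [e1, e2, hc.npq, Bool.false_or, Bool.and_eq_true, blt_iff, beq_iff] at h1
  obtain ⟨⟨h2, h3⟩, ⟨h4, h5⟩, h6⟩ := h1
  refine ⟨_, h3, by omega, h4, h5, ?_, ?_⟩
  · rw [← h6, testBit_land, testBit_qmask] at hr
    simp only [Bool.and_eq_true] at hr
    exact hr.2.1
  · rw [← h6, testBit_land, testBit_qmask] at hs
    simp only [Bool.and_eq_true] at hs
    exact hs.2.1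

/-! ### the index set -/

/-- the vector of `F₂^6` of a code -/
def dec (n : ℕ) : Fin 3 ⊕ Fin 3 → ZMod 2 :=
  Sum.elim (fun i => if n.testBit i then 1 else 0) (fun i => if n.testBit (i + 3) then 1 else 0)

/-- the code of a vector of `F₂^6` -/
def enc (x : Fin 3 ⊕ Fin 3 → ZMod 2) : ℕ :=
  (if x (Sum.inl 0) = 1 then 1 else 0) + (if x (Sum.inl 1) = 1 then 2 else 0) +
  (if x (Sum.inl 2) = 1 then 4 else 0) + (if x (Sum.inr 0) = 1 then 8 else 0) +
  (if x (Sum.inr 1) = 1 then 16 else 0) + (if x (Sum.inr 2) = 1 then 32 else 0)

theorem enc_spec : ∀ x : Fin 3 ⊕ Fin 3 → ZMod 2, enc x < 64 ∧ ∀ j, dec (enc x) j = x j := by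
  decide +kernel

theorem enc_lt (x : Fin 3 ⊕ Fin 3 → ZMod 2) : enc x < 64 := (enc_spec x).1

theorem dec_enc (x : Fin 3 ⊕ Fin 3 → ZMod 2) : dec (enc x) = x := funext (enc_spec x).2

theorem enc_dec : ∀ n < 64, enc (dec n) = n := by decide +kernel

theorem dec_xor (a b : ℕ) : dec (a ^^^ b) = dec a + dec b := by
  funext i
  rcases i with i | i <;> simp only [dec, Pi.add_apply, Nat.testBit_xor, Sum.elim_inl, Sum.elim_inr]
  · cases a.testBit i <;> cases b.testBit i <;> decide
  · cases a.testBit (i + 3) <;> cases b.testBit (i + 3) <;> decide

theorem enc_eq_zero {x : Fin 3 ⊕ Fin 3 → ZMod 2} : enc x = 0 ↔ x = 0 := by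
  have h0 : dec 0 = 0 := by decide +kernel
  have h1 : enc 0 = 0 := by decide +kernel
  constructor
  · intro h; rw [← dec_enc x, h, h0]
  · rintro rfl; exact h1

theorem form_dec : ∀ n < 64, ∀ m < 64, Cfsg.sympForm 3 (ZMod 2) (dec n) (dec m) =
    if formc n m then 1 else 0 := by
  have key : ∀ n < 64, ∀ m < 64,
      (dec n (Sum.inr 0) * dec m (Sum.inl 0) - dec n (Sum.inl 0) * dec m (Sum.inr 0) +
      (dec n (Sum.inr 1) * dec m (Sum.inl 1) - dec n (Sum.inl 1) * dec m (Sum.inr 1)) +
      (dec n (Sum.inr 2) * dec m (Sum.inl 2) - dec n (Sum.inl 2) * dec m (Sum.inr 2))) =
      if formc n m then 1 else 0 := by decide +kernel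
  intro n hn m hm
  rw [sympForm_eq_sum, Fin.sum_univ_three]
  exact key n hn m hm

theorem form_enc (x y : Fin 3 ⊕ Fin 3 → ZMod 2) : Cfsg.sympForm 3 (ZMod 2) x y =
    if formc (enc x) (enc y) then 1 else 0 := by
  rw [← form_dec _ (enc_lt x) _ (enc_lt y), dec_enc, dec_enc]

theorem enc_transv (x w : Fin 3 ⊕ Fin 3 → ZMod 2) :
    enc (x + Cfsg.sympForm 3 (ZMod 2) x w • w) =
      cond (formc (enc x) (enc w)) (Nat.xor (enc x) (enc w)) (enc x) := by
  rw [form_enc]
  cases hf : formc (enc x) (enc w)
  · simp
  · simp only [if_true, one_smul, cond_true]
    have h1 : x + w = dec (enc x ^^^ enc w) := by rw [dec_xor, dec_enc, dec_enc]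
    rw [h1]
    exact enc_dec _ (Nat.xor_lt_two_pow (n := 6) (enc_lt x) (enc_lt w))

/-! ### the group -/

section Main

variable {G : Type*} [Group G] {Q : Subgroup G} {z : G} {h : Large Q z}

/-- `f` in coordinates -/
noncomputable def hat (φ : Coord h) (f : h.V ≃ₗ[ZMod 2] h.V) : F8 →ₗ[ZMod 2] F8 :=
  φ.e.toLinearMap ∘ₗ f.toLinearMap ∘ₗ φ.e.symm.toLinearMap

theorem hat_apply (φ : Coord h) (f : h.V ≃ₗ[ZMod 2] h.V) (v : h.V) : hat φ f (φ.e v) = φ.e (f v) := by
  show φ.e (f (φ.e.symm (φ.e v))) = _
  rw [φ.e.symm_apply_apply]

theorem hat_inv (φ : Coord h) (f : h.V ≃ₗ[ZMod 2] h.V) (x : F8) : hat φ f⁻¹ (hat φ f x) = x := by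
  show φ.e (f⁻¹ (φ.e.symm (φ.e (f (φ.e.symm x))))) = x
  rw [φ.e.symm_apply_apply]
  show φ.e (f.symm (f (φ.e.symm x))) = x
  rw [f.symm_apply_apply, φ.e.apply_symm_apply]

theorem hat_inj (φ : Coord h) (f : h.V ≃ₗ[ZMod 2] h.V) : Function.Injective (hat φ f) :=
  fun x y hxy => by rw [← hat_inv φ f x, hxy, hat_inv]

theorem hat_acts {φ : Coord h} {L : List ℕ} {f : h.V ≃ₗ[ZMod 2] h.V} (hf : Acts φ L f) (x : F8) :
    hat φ f x = lin L x := by
  obtain ⟨v, rfl⟩ := φ.e.surjective x
  rw [hat_apply, hf v]

/-- the hypotheses on `H` -/
structure Hyp (φ : Coord h) (H : Subgroup (h.V ≃ₗ[ZMod 2] h.V)) : Prop where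
  act : ∀ f ∈ H, ∀ u v u' v', u < 256 → v < 256 → u' < 256 → v' < 256 →
    hat φ f (vec u) = vec u' → hat φ f (vec v) = vec v' → adj u v = true → adj u' v' = true
  sieg : ∀ u v, u < 256 → v < 256 → adj u v = true → ∃ f ∈ H, Acts φ (sgc u v) f
  symm : ∀ u v, u < 256 → v < 256 → adj u v = true → adj v u = true

variable {φ : Coord h} {H : Subgroup (h.V ≃ₗ[ZMod 2] h.V)}

theorem Hyp.map_quad (hH : Hyp φ H) {f : h.V ≃ₗ[ZMod 2] h.V} (hf : f ∈ H) {c : ℕ} (hc : c < 64)
    (h0 : c ≠ 0) : ∃ d < 64, d ≠ 0 ∧ ∀ x ∈ T c, hat φ f x ∈ T d := by
  have hcf := conf_cf hc h0
  generalize hp0 : (cf c).1 = p at hcf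
  generalize hq0 : (cf c).2.1 = q at hcf
  generalize hr0 : (cf c).2.2.1 = r at hcf
  generalize hs0 : (cf c).2.2.2 = s at hcf
  obtain ⟨p', hp', ep⟩ := exists_code (hat φ f (vec p))
  obtain ⟨q', hq', eq⟩ := exists_code (hat φ f (vec q))
  obtain ⟨r', hr', er⟩ := exists_code (hat φ f (vec r))
  obtain ⟨s', hs', es⟩ := exists_code (hat φ f (vec s))
  have hA := fun u v u' v' => hH.act f hf u v u' v'
  have hB := hH.act f⁻¹ (H.inv_mem hf)
  have hC : Conf p' q' r' s' :=
    { pr := hA p r p' r' hcf.hp hcf.hr hp' hr' ep er hcf.pr
      rq := hA r q r' q' hcf.hr hcf.hq hr' hq' er eq hcf.rq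
      qs := hA q s q' s' hcf.hq hcf.hs hq' hs' eq es hcf.qs
      sp := hA s p s' p' hcf.hs hcf.hp hs' hp' es ep hcf.sp
      npq := by
        rw [← Bool.not_eq_true]
        intro h1
        have h2 := hB p' q' p q hp' hq' hcf.hp hcf.hq (by rw [← ep, hat_inv])
          (by rw [← eq, hat_inv]) h1
        rw [hcf.npq] at h2
        exact Bool.noConfusion h2
      ne := by
        intro h1
        apply hcf.ne
        apply vec_inj _ hcf.hp _ hcf.hq
        apply hat_inj φ f
        rw [ep, eq, h1]
      hp := hp'
      hq := hq'
      hr := hr'
      hs := hs' }
  obtain ⟨d, hd, hd0, h1, h2, h3, h4⟩ := exists_quad hC (hH.symm _ _ hr' hq' hC.rq)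
    (hH.symm _ _ hs' hp' hC.sp)
  refine ⟨d, hd, hd0, ?_⟩
  have hle : T c ≤ (T d).comap (hat φ f) := by
    apply T_le h0
    · rw [hp0, Submodule.mem_comap, ep, mem_T hd hp']; exact h1
    · rw [hq0, Submodule.mem_comap, eq, mem_T hd hq']; exact h2
    · rw [hr0, Submodule.mem_comap, er, mem_T hd hr']; exact h3
    · rw [hs0, Submodule.mem_comap, es, mem_T hd hs']; exact h4
  exact fun x hx => hle hx

theorem qmask_iff {c n : ℕ} (hn : n < 256) : Nat.testBit (qmask c) n = inQ c n := by
  rw [testBit_qmask, decide_eq_true hn, Bool.and_true]

theorem Hyp.trans (hH : Hyp φ H) {w : ℕ} (hw : w < 64) (hw0 : w ≠ 0) :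
    ∃ f ∈ H, ∀ c < 64, c ≠ 0 → ∀ x ∈ T c, hat φ f x ∈ T (cond (formc c w) (Nat.xor c w) c) := by
  have h7 := prod_ok w hw hw0
  unfold chk7 at h7
  generalize PL.getD w ((0, 0), (0, 0), (0, 0)) = x at h7
  obtain ⟨⟨a1, a2⟩, ⟨b1, b2⟩, c1, c2⟩ := x
  simp only [Bool.and_eq_true, blt_iff, beq_iff_eq] at h7
  obtain ⟨h7, ⟨⟨ha1, ha2⟩, ⟨hb1, hb2⟩, hc1, hc2⟩, ha, hb, hc⟩ := h7
  obtain ⟨f1, hf1, e1⟩ := hH.sieg _ _ ha1 ha2 ha
  obtain ⟨f2, hf2, e2⟩ := hH.sieg _ _ hb1 hb2 hb
  obtain ⟨f3, hf3, e3⟩ := hH.sieg _ _ hc1 hc2 hc
  have hl : ∀ u v, (sgc u v).length = 8 := fun u v => rfl
  have hA : Acts φ (Y w) (f1 * (f2 * f3)) := by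
    rw [← h7]
    exact acts_comp (hl _ _) e1 (acts_comp (hl _ _) e2 e3)
  have hY : (Y w).length = 8 := by
    rw [← h7]
    simp [comp, sgc]
  refine ⟨_, H.mul_mem hf1 (H.mul_mem hf2 hf3), ?_⟩
  intro c hc hc0
  have h6 := allLT_spec trans_ok w hw
  simp only [Bool.or_eq_true] at h6
  have h6 := h6.resolve_left (fun h0 => hw0 (beq_iff.1 h0))
  have h6 := allLT_spec h6 c hc
  simp only [Bool.or_eq_true] at h6
  have h6 := h6.resolve_left (fun h0 => hc0 (beq_iff.1 h0))
  unfold chk6 at h6
  simp only [Bool.and_eq_true] at h6
  have hd : cond (formc c w) (Nat.xor c w) c < 64 := by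
    cases formc c w
    · exact hc
    · exact Nat.xor_lt_two_pow (n := 6) hc hw
  generalize cond (formc c w) (Nat.xor c w) c = d at h6 hd
  have key : ∀ n, Nat.testBit (qmask d) (apc (Y w) n) = true →
      hat φ (f1 * (f2 * f3)) (vec n) ∈ T d := by
    intro n hn
    rw [testBit_qmask] at hn
    simp only [Bool.and_eq_true, decide_eq_true_eq] at hn
    rw [hat_acts hA, lin_vec' hY, mem_T hd hn.2]
    exact hn.1
  obtain ⟨⟨k1, k2⟩, k3, k4⟩ := h6
  have hle : T c ≤ (T d).comap (hat φ (f1 * (f2 * f3))) := by
    apply T_le hc0
    · exact key _ k1
    · exact key _ k2
    · exact key _ k3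
    · exact key _ k4
  exact fun x hx => hle hx

theorem form_T {c d : ℕ} (hc : c < 64) (hd : d < 64) :
    (∃ n < 256, n ≠ 0 ∧ inQ c n = true ∧ inQ d n = true) ↔ formc c d = false := by
  have h1 := allLT_spec (allLT_spec form_ok c hc) d hd
  unfold chk4 at h1
  cases hf : formc c d
  · simp only [hf, cond_false, Bool.and_eq_true, blt_iff] at h1
    refine iff_of_true ?_ rfl
    exact ⟨_, h1.1.2, by omega, h1.2.1, h1.2.2⟩
  · simp only [hf, cond_true, beq_iff] at h1
    refine iff_of_false ?_ (by simp)
    rintro ⟨n, hn, hn0, h2, h3⟩
    have h4 : Nat.testBit (Nat.land (qmask c) (qmask d)) n = true := by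
      rw [testBit_land, qmask_iff hn, qmask_iff hn, h2, h3]; rfl
    rw [h1] at h4
    exact hn0 (Nat.testBit_one_eq_true_iff_self_eq_zero.1 h4)

/-- the family of sets -/
def S (φ : Coord h) (c : Fin 3 ⊕ Fin 3 → ZMod 2) : Set h.V := {v | φ.e v ∈ T (enc c)}

theorem mem_S {c : Fin 3 ⊕ Fin 3 → ZMod 2} {v : h.V} : v ∈ S φ c ↔ φ.e v ∈ T (enc c) := Iff.rfl

theorem exists_code' (φ : Coord h) (v : h.V) : ∃ n < 256, φ.e v = vec n := exists_code _

theorem Hyp.fam (hH : Hyp φ H) : Fam H (S φ) where
  zero := by
    ext v
    rw [mem_S, enc_eq_zero.2 rfl, T_zero]
    exact iff_of_true Submodule.mem_top (Set.mem_univ _)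
  ne_univ := by
    intro c hc h1
    apply univ_ok (enc c) (enc_lt c) (fun h => hc (enc_eq_zero.1 h))
    apply Nat.eq_of_testBit_eq
    intro n
    rw [testBit_qmask, testBit_full]
    by_cases hn : n < 256
    · rw [decide_eq_true hn, Bool.and_true]
      have h2 : φ.e.symm (vec n) ∈ S φ c := by rw [h1]; exact Set.mem_univ _
      rw [mem_S, φ.e.apply_symm_apply, mem_T (enc_lt c) hn] at h2
      exact h2
    · rw [decide_eq_false hn, Bool.and_false]
  anti := by
    intro c d hc hd h1
    have h2 := allLT_spec anti_ok (enc c) (enc_lt c)
    simp only [Bool.or_eq_true] at h2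
    have h2 := h2.resolve_left (fun h0 => hc (enc_eq_zero.1 (beq_iff.1 h0)))
    have h2 := allLT_spec h2 (enc d) (enc_lt d)
    simp only [Bool.or_eq_true] at h2
    rcases h2.resolve_left (fun h0 => hd (enc_eq_zero.1 (beq_iff.1 h0))) with h3 | h3
    · rw [← dec_enc c, beq_iff.1 h3, dec_enc]
    · exfalso
      rw [Bool.not_eq_true', ← Bool.not_eq_true, beq_iff] at h3
      apply h3
      apply Nat.eq_of_testBit_eq
      intro n
      rw [testBit_land, testBit_qmask, testBit_qmask]
      by_cases hn : n < 256
      · rw [decide_eq_true hn, Bool.and_true, Bool.and_true]
        cases h4 : inQ (enc c) n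
        · rfl
        · have h5 : φ.e.symm (vec n) ∈ S φ c := by
            rw [mem_S, φ.e.apply_symm_apply, mem_T (enc_lt c) hn]; exact h4
          have h6 := h1 h5
          rw [mem_S, φ.e.apply_symm_apply, mem_T (enc_lt d) hn] at h6
          rw [h6]; rfl
      · rw [decide_eq_false hn, Bool.and_false, Bool.false_and]
  map := by
    intro f hf c hc
    obtain ⟨d, hd, hd0, h1⟩ := hH.map_quad hf (enc_lt c) (fun h => hc (enc_eq_zero.1 h))
    refine ⟨dec d, ?_, ?_⟩
    · intro h0
      apply hd0
      rw [← enc_dec d hd, h0]
      exact enc_eq_zero.2 rfl
    · intro v hv
      rw [mem_S, enc_dec d hd, ← hat_apply]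
      exact h1 _ hv
  form := by
    intro c d
    have h1 : Cfsg.sympForm 3 (ZMod 2) c d = 0 ↔ formc (enc c) (enc d) = false := by
      rw [form_enc]
      cases formc (enc c) (enc d) <;> simp
    rw [h1, ← form_T (enc_lt c) (enc_lt d)]
    constructor
    · rintro ⟨v, hv, h2, h3⟩
      obtain ⟨n, hn, e⟩ := exists_code' φ v
      rw [mem_S, e, mem_T (enc_lt _) hn] at h2 h3
      refine ⟨n, hn, ?_, h2, h3⟩
      rintro rfl
      rw [vec_zero] at e
      exact hv (φ.e.map_eq_zero_iff.1 e)
    · rintro ⟨n, hn, hn0, h2, h3⟩
      refine ⟨φ.e.symm (vec n), ?_, ?_, ?_⟩
      · intro h4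
        rw [φ.e.symm.map_eq_zero_iff, ← vec_zero] at h4
        exact hn0 (vec_inj _ hn _ (by norm_num) h4)
      · rw [mem_S, φ.e.apply_symm_apply, mem_T (enc_lt _) hn]; exact h2
      · rw [mem_S, φ.e.apply_symm_apply, mem_T (enc_lt _) hn]; exact h3
  fix := by
    intro f hf h1
    have h2 : ∀ i < 8, hat φ f (vec (2 ^ i)) = vec (2 ^ i) := by
      intro i hi
      have hi2 : 2 ^ i < 256 := by
        calc 2 ^ i < 2 ^ 8 := Nat.pow_lt_pow_right (by norm_num) hi
          _ = 256 := by norm_num
      obtain ⟨n, hn, e⟩ := exists_code (hat φ f (vec (2 ^ i)))
      have h3 := allLT_spec (allLT_spec fix_ok i hi) n hn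
      simp only [Bool.or_eq_true, beq_iff] at h3
      rcases h3 with h3 | h3 | h3
      · exfalso
        rw [h3, vec_zero, ← map_zero (hat φ f)] at e
        have h4 := hat_inj φ f e
        rw [← vec_zero] at h4
        have h5 := vec_inj _ hi2 _ (by norm_num) h4
        exact absurd h5 (by positivity)
      · rw [e, h3]
      · exfalso
        rw [Bool.not_eq_true', ← Bool.not_eq_true] at h3
        apply h3
        have key : ∀ c < 64, (!inQ c (2 ^ i) || inQ c n) = true := by
          intro c hc
          cases h4 : inQ c (2 ^ i)
          · rfl
          · have h5 : φ.e.symm (vec (2 ^ i)) ∈ S φ (dec c) := by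
              rw [mem_S, φ.e.apply_symm_apply, enc_dec c hc, mem_T hc hi2]; exact h4
            have h6 := h1 _ _ h5
            rw [mem_S, ← hat_apply, φ.e.apply_symm_apply, enc_dec c hc, e, mem_T hc hn] at h6
            rw [h6]; rfl
        have allLT_of : ∀ (g : ℕ → Bool) (k : ℕ), (∀ j < k, g j = true) → allLT g k = true := by
          intro g k
          induction k with
          | zero => intro _; rfl
          | succ k ih =>
            intro hg
            simp only [allLT, Bool.and_eq_true]
            exact ⟨hg k (Nat.lt_succ_self k), ih fun j hj => hg j (Nat.lt_succ_of_lt hj)⟩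
        exact allLT_of _ _ key
    have h3 : hat φ f = LinearMap.id := by
      apply (Pi.basisFun (ZMod 2) (Fin 8)).ext
      intro i
      rw [Pi.basisFun_apply, basis_vec, h2 i i.2]
      rfl
    ext v
    apply φ.e.injective
    rw [← hat_apply, h3]
    rfl
  trans := by
    intro w hw
    obtain ⟨f, hf, h1⟩ := hH.trans (enc_lt w) (fun h => hw (enc_eq_zero.1 h))
    refine ⟨f, hf, fun c hc v hv => ?_⟩
    rw [mem_S, enc_transv, ← hat_apply]
    exact h1 _ (enc_lt c) (fun h => hc (enc_eq_zero.1 h)) _ hv

/-- **`H ≃* Sp(6, 2)`** -/
theorem Hyp.nonempty_sp (hH : Hyp φ H) :
    Nonempty (H ≃* Matrix.symplecticGroup (Fin 3) (ZMod 2)) := hH.fam.nonempty_equiv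

/-! ### from the enumeration -/

theorem apc_lt : ∀ {L : List ℕ}, (∀ x ∈ L, x < 256) → ∀ n, apc L n < 256 := by
  intro L
  induction L with
  | nil => intro _ n; show 0 < 256; norm_num
  | cons a L ih =>
    intro hL n
    show Nat.xor (cond (Nat.testBit n 0) a 0) (apc L (n / 2)) < 256
    apply xor_lt
    · cases Nat.testBit n 0
      · show 0 < 256; norm_num
      · exact hL a List.mem_cons_self
    · exact ih (fun x hx => hL x (List.mem_cons_of_mem _ hx)) _

theorem mem_six_cl (u v : ℕ) : 256 * u + v ∈ six (cl u v).1 (cl u v).2 := by
  have e1 : Nat.xor u (Nat.xor u v) = v := xor_xor_self_left u v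
  have e2 : Nat.xor v (Nat.xor u v) = u := by rw [xor_comm' u v]; exact xor_xor_self_left v u
  have e3 : Nat.xor (Nat.xor u v) u = v := by rw [xor_comm' _ u]; exact e1
  have e4 : Nat.xor (Nat.xor u v) v = u := by rw [xor_comm' _ v]; exact e2
  unfold cl six
  simp only
  split_ifs <;> simp [e1, e2, e3, e4]

theorem adj_iff {M : List ℕ → Prop} {U : ℕ → ℕ → Prop} (hU : USet M U)
    (hUU : ∀ u v, U u v ↔ cl u v ∈ lines T45 ∨ cl u v ∈ lines TA4) {u v : ℕ} (hu : u < 256)
    (hv : v < 256) : adj u v = true ↔ U u v := by
  unfold adj
  rw [← RM_eq]
  constructor
  · intro h1
    have h2 := testBit_maskOf _ _ h1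
    rw [List.mem_flatMap] at h2
    obtain ⟨e, he, h3⟩ := h2
    have h4 : U e.1 e.2.1 := by
      rcases List.mem_append.1 he with he | he
      · exact (hU.T45 e he).2 trivial
      · exact (hU.TA4 e he).2 ((hUU 1 4).2 (Or.inr (by decide +kernel)))
    obtain ⟨k1, k2, k3, k4, k5⟩ := hU.all6 h4
    obtain ⟨l1, l2, -⟩ := hU.line h4
    obtain ⟨-, l3, -⟩ := hU.line k2
    generalize e.1 = a at *
    generalize e.2.1 = b at *
    have key : ∀ x y : ℕ, x < 256 → y < 256 → 256 * u + v = 256 * x + y → u = x ∧ v = y := by
      intro x y hx hy hxy
      omega
    unfold six at h3
    simp only [List.mem_cons, List.not_mem_nil, or_false] at h3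
    rcases h3 with h3 | h3 | h3 | h3 | h3 | h3
    · obtain ⟨rfl, rfl⟩ := key _ _ l1 l2 h3; exact h4
    · obtain ⟨rfl, rfl⟩ := key _ _ l2 l1 h3; exact k1
    · obtain ⟨rfl, rfl⟩ := key _ _ l1 l3 h3; exact k2
    · obtain ⟨rfl, rfl⟩ := key _ _ l3 l1 h3; exact k3
    · obtain ⟨rfl, rfl⟩ := key _ _ l2 l3 h3; exact k4
    · obtain ⟨rfl, rfl⟩ := key _ _ l3 l2 h3; exact k5
  · intro h1
    apply mem_maskOf
    rw [List.mem_flatMap]
    have h2 : ∃ e ∈ T45.flatten ++ TA4.flatten, e.1 = (cl u v).1 ∧ e.2.1 = (cl u v).2 := by
      rcases (hUU u v).1 h1 with h3 | h3
      · obtain ⟨e, he, h4⟩ := mem_lines.1 h3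
        exact ⟨e, List.mem_append_left _ he, h4⟩
      · obtain ⟨e, he, h4⟩ := mem_lines.1 h3
        exact ⟨e, List.mem_append_right _ he, h4⟩
    obtain ⟨e, he, h3, h4⟩ := h2
    exact ⟨e, he, by rw [h3, h4]; exact mem_six_cl u v⟩

/-- the hypotheses from the enumeration `UEnum.enum_codes`, second alternative -/
theorem Hyp.of_uset {M : List ℕ → Prop} {U : ℕ → ℕ → Prop} (hM : ∀ f ∈ H, ∃ L, M L ∧ Acts φ L f)
    (hM' : ∀ L, M L → L.length = 8 ∧ (∀ x ∈ L, x < 256) ∧ ∃ f ∈ H, Acts φ L f) (hU : USet M U)
    (hUU : ∀ u v, U u v ↔ cl u v ∈ lines T45 ∨ cl u v ∈ lines TA4) : Hyp φ H where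
  act := by
    intro f hf u v u' v' hu hv hu' hv' h1 h2 h3
    obtain ⟨L, hL, hA⟩ := hM f hf
    obtain ⟨hL8, hL2, -⟩ := hM' L hL
    rw [hat_acts hA, lin_vec' hL8] at h1 h2
    have e1 := vec_inj _ (apc_lt hL2 u) _ hu' h1
    have e2 := vec_inj _ (apc_lt hL2 v) _ hv' h2
    rw [adj_iff hU hUU hu' hv', ← e1, ← e2]
    exact hU.act hL ((adj_iff hU hUU hu hv).1 h3)
  sieg := by
    intro u v hu hv h1
    exact (hM' _ (hU.sieg ((adj_iff hU hUU hu hv).1 h1))).2.2
  symm := by
    intro u v hu hv h1
    exact (adj_iff hU hUU hv hu).2 (hU.symm ((adj_iff hU hUU hu hv).1 h1))

end Main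

end Cfsg.Agent.LargeExtra.Nine.SpSix
end

-- part: LargeExtra/Nine/SpCo
section
/-!
# S1763, case I, second alternative of `UCoord.exists_coord`: `C_G(z) / Q ≃* Sp(6, 2)`, hence `Co₂` (S1675)

* `core_data`: the hypotheses of the recognition theorems in the form "trivial core, trivial centre, 2-constrained
  centraliser" from `F*(C_G(z))` extraspecial in a simple group (also for S1677);
* `exists_sp`: `C_G(z) / Q ≃* Sp(6, 2)`;
* `isoCo2`: `G ≅ Co₂`, given S1675 for `G`.
-/

set_option autoImplicit false

namespace Cfsg.Agent.LargeExtra.Nine.SpCo

open Cfsg.Agent.Co2Type.Quad Cfsg.Agent.LargeExtra.Base Cfsg.Agent.LargeExtra.Nine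
open UTree UCode UEnum UCoord SpSix

section Core

variable {G : Type*} [Group G] [Finite G]

theorem odd_core_eq_bot [IsSimpleGroup G] {z : G} (hz : orderOf z = 2) : Cfsg.oddCore G = ⊥ := by
  have hn : (Cfsg.pPrimeCore 2 G).Normal := inferInstance
  rcases hn.eq_bot_or_eq_top with h | h
  · exact h
  · exfalso
    have h1 := Cfsg.Agent.PLocal.PConstrained.coprime_card_pPrimeCore (G := G) (p := 2)
    rw [h, Subgroup.card_top] at h1
    have h2 : 2 ∣ Nat.card G := by rw [← hz]; exact orderOf_dvd_natCard z
    have h3 : 2 ∣ Nat.gcd (Nat.card G) 2 := Nat.dvd_gcd h2 (dvd_refl 2)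
    rw [h1] at h3
    exact absurd h3 (by norm_num)

theorem center_eq_bot [IsSimpleGroup G] (hG : ¬ IsMulCommutative G) : Subgroup.center G = ⊥ := by
  have hn : (Subgroup.center G).Normal := inferInstance
  rcases hn.eq_bot_or_eq_top with h | h
  · exact h
  · exfalso
    apply hG
    refine ⟨⟨fun a b => ?_⟩⟩
    have ha : a ∈ Subgroup.center G := by rw [h]; exact Subgroup.mem_top a
    exact ((Subgroup.mem_center_iff.1 ha) b).symm

/-- the hypotheses of S1675, S1677 from an extraspecial `F*(C_G(z))` -/
theorem core_data [IsSimpleGroup G] (hG : ¬ IsMulCommutative G) {z : G} (hz : orderOf z = 2)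
    (hE : Cfsg.IsExtraspecial 2
      ↥(Cfsg.generalizedFittingSubgroup ↥(Subgroup.centralizer ({z} : Set G)))) :
    Cfsg.oddCore G = ⊥ ∧ Subgroup.center G = ⊥ ∧
      Cfsg.generalizedFittingSubgroup ↥(Subgroup.centralizer ({z} : Set G)) =
        Cfsg.pCore 2 ↥(Subgroup.centralizer ({z} : Set G)) ∧
      Cfsg.IsPConstrained 2 ↥(Subgroup.centralizer ({z} : Set G)) := by
  have : Fact (Nat.Prime 2) := ⟨Nat.prime_two⟩
  have hn := Cfsg.Agent.S1755.gfs_normal ↥(Subgroup.centralizer ({z} : Set G))
  have hcc := Cfsg.Agent.S1313.centralizer_le ↥(Subgroup.centralizer ({z} : Set G))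
  have hp : IsPGroup 2 ↥(Cfsg.generalizedFittingSubgroup ↥(Subgroup.centralizer ({z} : Set G))) :=
    hE.1.1
  have h1 := Cfsg.Agent.SignalizersComponents.FStarPCore.generalizedFitting_eq_pCore_of_centralizer_le
    hn hp hcc
  refine ⟨odd_core_eq_bot hz, center_eq_bot hG, h1, ?_⟩
  apply Cfsg.Agent.PLocal.PConstrained.isPConstrained_of_charP
  rw [← h1]
  exact hcc

end Core

section Main

variable {G : Type*} [Group G] {Q : Subgroup G} {z : G} {h : Large Q z}

/-- `H` in the second alternative of `UCoord.exists_coord` -/
theorem hyp (φ : Coord h) (hU : USet (MM φ) (UU φ))
    (hUU : ∀ u v, UU φ u v ↔ cl u v ∈ lines T45 ∨ cl u v ∈ lines TA4) : Hyp φ h.act.range :=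
  Hyp.of_uset (fun _ hf => exists_MM φ hf) (fun _ hL => ⟨hL.1.1, hL.1.2, hL.2⟩) hU hUU

/-- **`C_G(z) / Q ≃* Sp(6, 2)`** -/
theorem exists_sp [Finite G] (φ : Coord h) (hU : USet (MM φ) (UU φ))
    (hUU : ∀ u v, UU φ u v ↔ cl u v ∈ lines T45 ∨ cl u v ∈ lines TA4)
    (Q' : Subgroup (Subgroup.centralizer ({z} : Set G))) [Q'.Normal]
    (hQ' : Q'.map (Subgroup.centralizer ({z} : Set G)).subtype = Q) :
    Nonempty ((Subgroup.centralizer ({z} : Set G)) ⧸ Q' ≃*
      Matrix.symplecticGroup (Fin 3) (ZMod 2)) := by
  obtain ⟨e1⟩ := SixMinus.quotient_equiv h Q' hQ'
  obtain ⟨e2⟩ := (hyp φ hU hUU).nonempty_sp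
  exact ⟨e1.trans e2⟩

/-- **The case `Co₂` of S1763**: `H1675` is S1675 for the group `G`. -/
theorem isoCo2 [Finite G] [IsSimpleGroup G] (hG : ¬ IsMulCommutative G) (hz : orderOf z = 2)
    (hE : Cfsg.IsExtraspecial 2
      ↥(Cfsg.generalizedFittingSubgroup ↥(Subgroup.centralizer ({z} : Set G))))
    (hcard : Nat.card
      ↥(Cfsg.generalizedFittingSubgroup ↥(Subgroup.centralizer ({z} : Set G))) = 2 ^ 9)
    (hQ : (Cfsg.generalizedFittingSubgroup ↥(Subgroup.centralizer ({z} : Set G))).map
      (Subgroup.centralizer ({z} : Set G)).subtype = Q)
    (φ : Coord h) (hU : USet (MM φ) (UU φ))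
    (hUU : ∀ u v, UU φ u v ↔ cl u v ∈ lines T45 ∨ cl u v ∈ lines TA4)
    (H1675 : Cfsg.oddCore G = ⊥ → Subgroup.center G = ⊥ → ∀ t : G, orderOf t = 2 →
      Cfsg.IsPConstrained 2 (Subgroup.centralizer ({t} : Set G)) →
      Cfsg.IsExtraspecial 2 (Cfsg.pCore 2 (Subgroup.centralizer ({t} : Set G))) →
      Nat.card (Cfsg.pCore 2 (Subgroup.centralizer ({t} : Set G))) = 2 ^ 9 →
      ((Subgroup.centralizer ({t} : Set G)) ⧸ Cfsg.pCore 2 (Subgroup.centralizer ({t} : Set G)) ≃*
        Matrix.symplecticGroup (Fin 3) (ZMod 2)) → Cfsg.Spor.IsoCo2 G) : Cfsg.Spor.IsoCo2 G := by
  obtain ⟨h1, h2, h3, h4⟩ := core_data hG hz hE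
  rw [h3] at hE hcard hQ
  obtain ⟨e⟩ := exists_sp φ hU hUU _ hQ
  exact H1675 h1 h2 z hz h4 hE hcard e

end Main

end Cfsg.Agent.LargeExtra.Nine.SpCo
end
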