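import Cfsg.Agent.LargeExtra.Nine.Iface
set_option linter.all false

/-!
# S1763 case I (`z` weakly closed in `Q`): interface between the local analysis (helper888: [A], [B], [C] of
bb R12 row 3951) and the enumeration [D], [E] (helper71, `Nine/UEnum.lean`)

`IsU h t u v`: `t` is a conjugate of `z` commuting with `z` and acts on `V = Q / ⟨z⟩` as the Siegel element of the
totally singular line `⟨u, v⟩` (type U).
`Qf t` = the conjugate of `Q` belonging to `t`.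
-/

set_option autoImplicit false

namespace Cfsg.Agent.LargeExtra.Nine

open Cfsg.Agent.Co2Type.Quad Cfsg.Agent.LargeExtra.Local Cfsg.Agent.LargeExtra.Base

variable {G : Type*} [Group G] {Q : Subgroup G} {z : G}

/-- `y` (commuting with `z`) acts on `V` as the function `f` -/
def ActsAs (h : Large Q z) (y : G) (f : h.V → h.V) : Prop :=
  ∃ hy : y ∈ Subgroup.centralizer ({z} : Set G), ∀ x, h.act ⟨y, hy⟩ x = f x

/-- type U -/
structure IsU (h : Large Q z) (t : G) (u v : h.V) : Prop where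
  conj : ∃ g, g * z * g⁻¹ = t
  u0 : u ≠ 0
  v0 : v ≠ 0
  uv : u ≠ v
  qu : h.q u = 0
  qv : h.q v = 0
  b : h.b u v = 0
  act : ActsAs h t fun x => x + h.b x u • v + h.b x v • u

/-- the output of the local analysis of case I -/
structure UInput (h : Large Q z) (Qf : G → Subgroup G) : Prop where
  Qf_z : Qf z = Q
  Qf_conj : ∀ g t, (∃ k, k * z * k⁻¹ = t) → Qf (g * t * g⁻¹) = (Qf t).map (MulAut.conj g).toMonoidHom
  /-- [A]: `Xb_t / ⟨tb⟩ = {f_x : x ∈ W^⊥ / W}`, `f_x(r) = b(x,r) u + b(ρx,r) v` -/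
  rho : ∀ t u v, IsU h t u v → ∃ ρ : h.V →ₗ[ZMod 2] h.V,
    (∀ x ∈ Submodule.span (ZMod 2) ({u, v} : Set h.V), ρ x ∈ Submodule.span (ZMod 2) ({u, v} : Set h.V)) ∧
    (∀ x, h.b u x = 0 → h.b v x = 0 → h.b u (ρ x) = 0 ∧ h.b v (ρ x) = 0 ∧ h.q (ρ x) = h.q x ∧
      ρ (ρ x) + ρ x + x ∈ Submodule.span (ZMod 2) ({u, v} : Set h.V)) ∧
    (∀ y ∈ Qf t, y * z = z * y → ∃ x, h.b u x = 0 ∧ h.b v x = 0 ∧
      ∀ hy : y ∈ Subgroup.centralizer ({z} : Set G), ∀ r, h.b u r = 0 → h.b v r = 0 →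
        h.act ⟨y, hy⟩ r = r + h.b x r • u + h.b (ρ x) r • v) ∧
    (∀ x, h.b u x = 0 → h.b v x = 0 → ∃ y ∈ Qf t, ∃ hy : y ∈ Subgroup.centralizer ({z} : Set G),
      ∀ r, h.b u r = 0 → h.b v r = 0 → h.act ⟨y, hy⟩ r = r + h.b x r • u + h.b (ρ x) r • v)
  /-- [B]: all `z`-type elements with the same line are conjugate under `Q` -/
  same : ∀ t t' u v, IsU h t u v → IsU h t' u v → ∃ x ∈ Q, x * t * x⁻¹ = t'
  /-- [C]: there is an opposite pair -/
  opp : ∃ t u v t' u' v', IsU h t u v ∧ IsU h t' u' v' ∧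
    h.b u u' = 1 ∧ h.b v v' = 1 ∧ h.b u v' = 0 ∧ h.b v u' = 0

end Cfsg.Agent.LargeExtra.Nine
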